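import Mathlib
import Groth.Agent.FlatLib.GenericFP

/-!
# Fibres near the generic point: algebra
-/

set_option autoImplicit false

universe u

open TensorProduct

noncomputable section

namespace GenFibNearLib

variable {R : Type u} [CommRing R] [IsDomain R] {B : Type u} [CommRing B] [Algebra R B]

/-- `Q` lies over the generic point -/
def IsGeneric (Q : Ideal B) : Prop := ∀ r : R, algebraMap R B r ∈ Q → r = 0

/-- a closed set missing the generic fibre misses the fibres near it -/
theorem exists_closed_empty (I : Ideal B) (h : ∀ Q : Ideal B, Q.IsPrime → IsGeneric (R := R) Q → ¬ I ≤ Q) :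
    ∃ f : R, f ≠ 0 ∧ ∀ Q : Ideal B, Q.IsPrime → algebraMap R B f ∉ Q → ¬ I ≤ Q := by
  by_cases hd : ∃ r : R, r ≠ 0 ∧ algebraMap R B r ∈ I
  · obtain ⟨r, hr, hrI⟩ := hd
    exact ⟨r, hr, fun Q _ hQ hle => hQ (hle hrI)⟩
  · push Not at hd
    exfalso
    have hdisj : Disjoint (I : Set B) ↑((nonZeroDivisors R).map (algebraMap R B : R →* B)) := by
      rw [Set.disjoint_left]
      rintro x hx ⟨r, hr, rfl⟩
      exact hd r (nonZeroDivisors.ne_zero hr) hx
    obtain ⟨Q, hQ, hIQ, hQd⟩ := Ideal.exists_le_prime_disjoint I _ hdisj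
    exact h Q hQ (fun r hr => by_contra fun hr0 =>
      Set.disjoint_left.1 hQd hr ⟨r, mem_nonZeroDivisors_of_ne_zero hr0, rfl⟩) hIQ

variable {M : Type u} [AddCommGroup M] [Module R M]

/-- torsion in a module free over `R[1/f]` is killed by powers of `f` -/
theorem pow_smul_eq_zero {f : R} (hf : f ≠ 0)
    [Module.Free (Localization.Away f) (Localization.Away f ⊗[R] M)] {r : R} (hr : r ≠ 0) {m : M}
    (hm : r • m = 0) : ∃ n : ℕ, f ^ n • m = 0 := by
  haveI : IsDomain (Localization.Away f) :=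
    IsLocalization.isDomain_localization (powers_le_nonZeroDivisors_of_noZeroDivisors hf)
  have h1 : algebraMap R (Localization.Away f) r • ((1 : Localization.Away f) ⊗ₜ[R] m) = 0 := by
    rw [algebraMap_smul, ← TensorProduct.tmul_smul, hm, TensorProduct.tmul_zero]
  have hr' : algebraMap R (Localization.Away f) r ≠ 0 := fun h => hr
    (IsLocalization.injective (Localization.Away f) (powers_le_nonZeroDivisors_of_noZeroDivisors hf)
      (h.trans (map_zero _).symm))
  have h2 : (1 : Localization.Away f) ⊗ₜ[R] m = 0 := (smul_eq_zero.1 h1).resolve_left hr'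
  obtain ⟨⟨c, n, rfl⟩, hc⟩ := (IsLocalizedModule.eq_zero_iff (Submonoid.powers f)
    (TensorProduct.mk R (Localization.Away f) M 1)).1 h2
  exact ⟨n, hc⟩

theorem algebraMap_mul_eq {S : Type*} [CommRing S] [Algebra R S] (r : R) (s : S) : algebraMap R S r * s = r • s :=
  (Algebra.smul_def r s).symm

variable [Algebra.FiniteType R B]

/-- over a nonempty open every point has a generization in the generic fibre -/
theorem exists_generic_le : ∃ f : R, f ≠ 0 ∧ ∀ Q : Ideal B, Q.IsPrime → algebraMap R B f ∉ Q →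
    ∃ Q₀ : Ideal B, Q₀.IsPrime ∧ Q₀ ≤ Q ∧ IsGeneric (R := R) Q₀ := by
  let B' := B ⧸ nilradical B
  obtain ⟨f, hf, hfree, -⟩ := FlatLib.generic_freeness_fp (R := R) (S := B) (M := B')
  refine ⟨f, hf, fun Q hQ hfQ => ?_⟩
  haveI := hQ
  obtain ⟨Q₀, hQ₀, hle⟩ := Ideal.exists_minimalPrimes_le (bot_le : (⊥ : Ideal B) ≤ Q)
  haveI : Q₀.IsPrime := hQ₀.1.1
  refine ⟨Q₀, ‹_›, hle, fun r hr => by_contra fun hr0 => ?_⟩
  obtain ⟨s, hs, n, hn⟩ := exists_nilpotent_mul hQ₀ hr
  have h0 : r • (Ideal.Quotient.mk (nilradical B) s) = 0 := by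
    change Ideal.Quotient.mk (nilradical B) (r • s) = 0
    rw [Ideal.Quotient.eq_zero_iff_mem, ← algebraMap_mul_eq]
    exact ⟨n, hn⟩
  haveI := hfree
  obtain ⟨k, hk⟩ := pow_smul_eq_zero hf hr0 h0
  change Ideal.Quotient.mk (nilradical B) (f ^ k • s) = 0 at hk
  rw [Ideal.Quotient.eq_zero_iff_mem, ← algebraMap_mul_eq] at hk
  have : algebraMap R B (f ^ k) * s ∈ Q₀ := nilradical_le_prime Q₀ hk
  rcases (‹Q₀.IsPrime›).mem_or_mem this with h | h
  · rw [map_pow] at h
    exact hfQ (hle (‹Q₀.IsPrime›.mem_of_pow_mem _ h))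
  · exact hs h
where
  exists_nilpotent_mul {Q₀ : Ideal B} (hQ₀ : Q₀ ∈ (⊥ : Ideal B).minimalPrimes) {x : B} (hx : x ∈ Q₀) :
      ∃ s, s ∉ Q₀ ∧ ∃ n : ℕ, (x * s) ^ n = 0 := by
    haveI : Q₀.IsPrime := hQ₀.1.1
    obtain ⟨n, hn⟩ : IsNilpotent (algebraMap B (Localization.AtPrime Q₀) x) := by
      rw [← mem_nilradical, nilradical_eq_sInf, Submodule.mem_sInf]
      intro P hP
      haveI : Ideal.IsPrime P := hP
      have hle : Ideal.comap (algebraMap B (Localization.AtPrime Q₀)) P ≤ Q₀ :=
        (((IsLocalization.AtPrime.orderIsoOfPrime (Localization.AtPrime Q₀) Q₀) ⟨P, hP⟩).2).2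
      exact hQ₀.2 ⟨inferInstance, bot_le⟩ hle hx
    rw [← map_pow, IsLocalization.map_eq_zero_iff Q₀.primeCompl] at hn
    obtain ⟨⟨s, hs⟩, hsx⟩ := hn
    refine ⟨s, hs, n + 1, ?_⟩
    rw [mul_pow, pow_succ, pow_succ, show x ^ n * x * (s ^ n * s) = (s * x ^ n) * (x * s ^ n) by ring, hsx, zero_mul]

/-- over a nonempty open each fibre has points in the closure of a generic point -/
theorem exists_prime_over (Q₀ : Ideal B) [Q₀.IsPrime] (h₀ : IsGeneric (R := R) Q₀) {g : B} (hg : g ∉ Q₀) :
    ∃ f : R, f ≠ 0 ∧ ∀ p : Ideal R, p.IsPrime → f ∉ p →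
      ∃ Q : Ideal B, Q.IsPrime ∧ Q₀ ≤ Q ∧ g ∉ Q ∧ Q.comap (algebraMap R B) = p := by
  let gb := Ideal.Quotient.mk Q₀ g
  let C := Localization.Away gb
  haveI : IsLocalization.Away gb C := inferInstance
  haveI : IsDomain C := IsLocalization.isDomain_localization (powers_le_nonZeroDivisors_of_noZeroDivisors
    (fun h => hg (Ideal.Quotient.eq_zero_iff_mem.1 h)))
  haveI : Algebra.FiniteType (B ⧸ Q₀) C := IsLocalization.finiteType_of_monoid_fg (Submonoid.powers gb) C
  haveI : Algebra.FiniteType R C := Algebra.FiniteType.trans (S := B ⧸ Q₀)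
    (Algebra.FiniteType.trans (S := B) inferInstance inferInstance) inferInstance
  obtain ⟨f, hf, hfree, -⟩ := FlatLib.generic_freeness_fp (R := R) (S := C) (M := C)
  refine ⟨f, hf, fun p hp hfp => ?_⟩
  haveI := hp; haveI := hfree
  have hinjR : Function.Injective (algebraMap R C) := by
    rw [IsScalarTower.algebraMap_eq R (B ⧸ Q₀) C, RingHom.coe_comp]
    refine (IsLocalization.injective C (powers_le_nonZeroDivisors_of_noZeroDivisors
      (fun h => hg (Ideal.Quotient.eq_zero_iff_mem.1 h)))).comp ((injective_iff_map_eq_zero _).2 fun r hr => ?_)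
    exact h₀ r (Ideal.Quotient.eq_zero_iff_mem.1 hr)
  haveI : Nontrivial (Localization.Away f ⊗[R] C) := by
    refine ⟨(1 : Localization.Away f) ⊗ₜ (1 : C), 0, fun h => ?_⟩
    obtain ⟨⟨c, n, rfl⟩, hc⟩ := (IsLocalizedModule.eq_zero_iff (Submonoid.powers f)
      (TensorProduct.mk R (Localization.Away f) C 1)).1 h
    have : algebraMap R C (f ^ n) = 0 := by rw [Algebra.algebraMap_eq_smul_one]; exact hc
    exact pow_ne_zero n hf (hinjR (this.trans (map_zero _).symm))
  letI : Algebra (Localization.Away f) p.ResidueField := (IsLocalization.Away.lift (g := algebraMap R p.ResidueField) f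
    (isUnit_iff_ne_zero.2 fun h => hfp (Ideal.algebraMap_residueField_eq_zero.1 h))).toAlgebra
  haveI : IsScalarTower R (Localization.Away f) p.ResidueField :=
    IsScalarTower.of_algebraMap_eq fun r => (IsLocalization.Away.lift_eq f _ r).symm
  haveI : Nontrivial (p.ResidueField ⊗[Localization.Away f] (Localization.Away f ⊗[R] C)) := inferInstance
  haveI : Nontrivial (p.Fiber C) :=
    (TensorProduct.AlgebraTensorModule.cancelBaseChange R (Localization.Away f) p.ResidueField p.ResidueField C).symm.toEquiv.nontrivial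
  obtain ⟨P⟩ : Nonempty (PrimeSpectrum (p.Fiber C)) := inferInstance
  obtain ⟨Qc, hQc, hover⟩ := (PrimeSpectrum.primesOverOrderIsoFiber R C p).symm P
  haveI := hQc
  refine ⟨Qc.comap (algebraMap B C), inferInstance, fun x hx => ?_, fun h => ?_, ?_⟩
  · rw [Ideal.mem_comap, IsScalarTower.algebraMap_apply B (B ⧸ Q₀) C, Ideal.Quotient.algebraMap_eq,
      Ideal.Quotient.eq_zero_iff_mem.2 hx, map_zero]
    exact Qc.zero_mem
  · rw [Ideal.mem_comap, IsScalarTower.algebraMap_apply B (B ⧸ Q₀) C, Ideal.Quotient.algebraMap_eq] at h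
    exact hQc.ne_top (Ideal.eq_top_of_isUnit_mem _ h (IsLocalization.Away.algebraMap_isUnit gb))
  · rw [Ideal.comap_comap, ← IsScalarTower.algebraMap_eq]
    exact hover.over.symm

/-- base change of a map with free cokernel stays injective -/
theorem injective_baseChange {N : Type u} [AddCommGroup N] [Module R N] (u : M →ₗ[R] N) {Q : Type u}
    [AddCommGroup Q] [Module R Q] (v : N →ₗ[R] Q) (huv : Function.Exact u v) (hv : Function.Surjective v)
    (A : Type u) [CommRing A] [Algebra R A] [Module.Flat A (A ⊗[R] Q)] (hu : Function.Injective (u.baseChange A))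
    (K : Type u) [CommRing K] [Algebra R K] [Algebra A K] [IsScalarTower R A K] :
    Function.Injective (u.baseChange K) := by
  have hexA : Function.Exact (u.baseChange A) (v.baseChange A) := lTensor_exact A huv hv
  have hsurjA : Function.Surjective (v.baseChange A) := LinearMap.lTensor_surjective A hv
  have h1 : Function.Injective ((u.baseChange A).lTensor K) :=
    LinearMap.lTensor_injective_of_exact_of_flat (v.baseChange A) hsurjA (u.baseChange A) hu hexA K
  let e := fun (P : Type u) [AddCommGroup P] [Module R P] =>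
    TensorProduct.AlgebraTensorModule.cancelBaseChange R A K K P
  have hnat : ∀ z, u.baseChange K (e M z) = e N ((u.baseChange A).lTensor K z) := fun z => by
    induction z using TensorProduct.induction_on with
    | zero => simp
    | add x y hx hy => simp [hx, hy]
    | tmul k t =>
      induction t using TensorProduct.induction_on with
      | zero => simp
      | add x y hx hy => simp [TensorProduct.tmul_add, hx, hy]
      | tmul a m => simp [e]
  intro x y hxy
  obtain ⟨x, rfl⟩ := (e M).surjective x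
  obtain ⟨y, rfl⟩ := (e M).surjective y
  rw [hnat, hnat] at hxy
  rw [h1 ((e N).injective hxy)]

omit [IsDomain R] in
theorem residueField_isUnit {f : R} {p : Ideal R} [p.IsPrime] (hfp : f ∉ p) :
    IsUnit (algebraMap R p.ResidueField f) :=
  isUnit_iff_ne_zero.2 fun h => hfp (Ideal.algebraMap_residueField_eq_zero.1 h)

/-- an element outside the minimal generic primes avoids the minimal primes of nearby fibres -/
theorem exists_not_mem_minimal (h : B) (hh : ∀ Q : Ideal B, Q ∈ (⊥ : Ideal B).minimalPrimes → IsGeneric (R := R) Q → h ∉ Q) :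
    ∃ f : R, f ≠ 0 ∧ ∀ p : Ideal R, p.IsPrime → f ∉ p → ∀ Q : Ideal B, Q.IsPrime →
      Q.comap (algebraMap R B) = p → h ∈ Q →
        ∃ Q' : Ideal B, Q'.IsPrime ∧ Q' ≤ Q ∧ Q'.comap (algebraMap R B) = p ∧ Q' ≠ Q := by
  let B' := B ⧸ nilradical B
  let hb := Ideal.Quotient.mk (nilradical B) h
  let u : B' →ₗ[R] B' := LinearMap.mulLeft R hb
  let Q' := B' ⧸ Ideal.span {hb}
  let v : B' →ₗ[R] Q' := (Ideal.Quotient.mkₐ R (Ideal.span {hb})).toLinearMap
  have huv : Function.Exact u v := fun x => by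
    constructor
    · intro hx
      obtain ⟨a, rfl⟩ := Ideal.mem_span_singleton.1 (Ideal.Quotient.eq_zero_iff_mem.1 (show Ideal.Quotient.mk _ x = 0 from hx))
      exact ⟨a, rfl⟩
    · rintro ⟨a, rfl⟩
      exact Ideal.Quotient.eq_zero_iff_mem.2 (Ideal.mem_span_singleton.2 (dvd_mul_right _ _))
  obtain ⟨f₁, hf₁, hgen⟩ := exists_generic_le (R := R) (B := B)
  haveI : Algebra.FiniteType R B' := Algebra.FiniteType.trans (S := B) inferInstance inferInstance
  obtain ⟨f₂, hf₂, hfree₂, -⟩ := FlatLib.generic_freeness_fp (R := R) (S := B') (M := Q')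
  let f := f₁ * f₂
  refine ⟨f, mul_ne_zero hf₁ hf₂, fun p hp hfp Q hQ hover hhQ => ?_⟩
  haveI := hp; haveI := hQ
  let A := Localization.Away f
  haveI : Module.Free A (A ⊗[R] Q') := FlatLib.free_tensor_of_isUnit _
    (isUnit_of_dvd_unit (map_dvd _ ⟨f₁, mul_comm _ _⟩) (IsLocalization.Away.algebraMap_isUnit f)) hfree₂
  have huA : Function.Injective (u.baseChange A) := by
    rw [injective_iff_map_eq_zero]
    intro z hz
    obtain ⟨⟨m, c, n, rfl⟩, hm⟩ := IsLocalizedModule.surj (Submonoid.powers f) (TensorProduct.mk R A B' 1) z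
    have hm' : (f ^ n) • z = (1 : A) ⊗ₜ[R] m := hm
    suffices h0 : (1 : A) ⊗ₜ[R] m = 0 by
      rw [h0, ← algebraMap_smul A, map_pow] at hm'
      exact ((IsLocalization.Away.algebraMap_isUnit f).pow n).smul_eq_zero.1 hm'
    have h1 : (1 : A) ⊗ₜ[R] (hb * m) = 0 := by
      have := congrArg (u.baseChange A) hm'
      rw [LinearMap.map_smul_of_tower, hz, smul_zero] at this
      exact (LinearMap.baseChange_tmul (f := u) (1 : A) m).symm.trans this.symm
    obtain ⟨⟨c, k, rfl⟩, hc⟩ := (IsLocalizedModule.eq_zero_iff (Submonoid.powers f) (TensorProduct.mk R A B' 1)).1 h1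
    refine (IsLocalizedModule.eq_zero_iff (Submonoid.powers f) (TensorProduct.mk R A B' 1)).2
      ⟨⟨f, 1, pow_one f⟩, ?_⟩
    obtain ⟨s, rfl⟩ := Ideal.Quotient.mk_surjective m
    change Ideal.Quotient.mk (nilradical B) (f ^ k • (h * s)) = 0 at hc
    change Ideal.Quotient.mk (nilradical B) (f • s) = 0
    rw [Ideal.Quotient.eq_zero_iff_mem, ← algebraMap_mul_eq] at hc ⊢
    rw [nilradical_eq_sInf, Submodule.mem_sInf]
    intro P (hP : Ideal.IsPrime P)
    revert hP
    revert P
    intro (P : Ideal B) hP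
    haveI : P.IsPrime := hP
    by_cases hfP : algebraMap R B f ∈ P
    · exact P.mul_mem_right _ hfP
    obtain ⟨P₀, hP₀, hle⟩ := Ideal.exists_minimalPrimes_le (bot_le : (⊥ : Ideal B) ≤ P)
    haveI : P₀.IsPrime := hP₀.1.1
    have hf0 : algebraMap R B f ∉ P₀ := fun h => hfP (hle h)
    obtain ⟨Q₀, hQ₀, hQ₀le, hQ₀g⟩ := hgen P₀ ‹_› fun h => hf0 (by rw [map_mul]; exact P₀.mul_mem_right _ h)
    have hP₀g : IsGeneric (R := R) P₀ := fun r hr => hQ₀g r (hP₀.2 ⟨hQ₀, bot_le⟩ hQ₀le hr)
    refine P.mul_mem_left _ (hle ?_)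
    rcases ‹P₀.IsPrime›.mem_or_mem (nilradical_le_prime P₀ hc) with h2 | h2
    · rw [map_pow] at h2
      exact absurd (‹P₀.IsPrime›.mem_of_pow_mem _ h2) hf0
    · exact (‹P₀.IsPrime›.mem_or_mem h2).resolve_left (hh P₀ hP₀ hP₀g)
  letI : Algebra A p.ResidueField :=
    (IsLocalization.Away.lift (g := algebraMap R p.ResidueField) f (residueField_isUnit hfp)).toAlgebra
  haveI : IsScalarTower R A p.ResidueField :=
    IsScalarTower.of_algebraMap_eq fun r => (IsLocalization.Away.lift_eq f _ r).symm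
  have hK := injective_baseChange u v huv Ideal.Quotient.mk_surjective A huA p.ResidueField
  -- the prime of the fibre ring
  have hnil : nilradical B ≤ Q := nilradical_le_prime Q
  let Qb : Ideal B' := Q.map (Ideal.Quotient.mk (nilradical B))
  haveI hQb : Qb.IsPrime := Ideal.map_isPrime_of_surjective Ideal.Quotient.mk_surjective (by rwa [Ideal.mk_ker])
  have hQc : Qb.comap (Ideal.Quotient.mk (nilradical B)) = Q := by
    rw [Ideal.comap_map_of_surjective _ Ideal.Quotient.mk_surjective, ← RingHom.ker_eq_comap_bot, Ideal.mk_ker,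
      sup_eq_left]
    exact hnil
  have hQbp : Qb.comap (algebraMap R B') = p := by
    rw [← hover, ← hQc, Ideal.comap_comap]; rfl
  let P := PrimeSpectrum.primesOverOrderIsoFiber R B' p ⟨Qb, hQb, ⟨hQbp.symm⟩⟩
  by_contra! hmin
  have hPmin : P.asIdeal ∈ minimalPrimes (p.Fiber B') := by
    obtain ⟨P₁, hP₁, hle⟩ := Ideal.exists_minimalPrimes_le (bot_le : (⊥ : Ideal (p.Fiber B')) ≤ P.asIdeal)
    haveI := hP₁.1.1
    suffices h1 : (⟨P₁, hP₁.1.1⟩ : PrimeSpectrum (p.Fiber B')) = P by
      rw [← h1]; exact hP₁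
    apply (PrimeSpectrum.primesOverOrderIsoFiber R B' p).symm.injective
    rw [OrderIso.symm_apply_apply]
    have hle' := (PrimeSpectrum.primesOverOrderIsoFiber R B' p).symm.monotone
      (show (⟨P₁, hP₁.1.1⟩ : PrimeSpectrum (p.Fiber B')) ≤ P from hle)
    rw [OrderIso.symm_apply_apply] at hle'
    generalize (PrimeSpectrum.primesOverOrderIsoFiber R B' p).symm ⟨P₁, hP₁.1.1⟩ = T at hle' ⊢
    obtain ⟨T, hT, hTp⟩ := T
    haveI := hT
    have he := hmin (T.comap (Ideal.Quotient.mk (nilradical B))) inferInstance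
      ((Ideal.comap_mono hle').trans hQc.le)
      (by rw [Ideal.comap_comap]; exact hTp.over.symm)
    refine Subtype.ext (Ideal.comap_injective_of_surjective _ Ideal.Quotient.mk_surjective ?_)
    exact he.trans hQc.symm
  have hmem : (Algebra.TensorProduct.includeRight hb : p.Fiber B') ∈ P.asIdeal := by
    have h1 : ((PrimeSpectrum.primesOverOrderIsoFiber R B' p).symm P).1 = Qb := by
      rw [OrderIso.symm_apply_apply]
    have h2 : hb ∈ Qb := Ideal.mem_map_of_mem _ hhQ
    rw [← h1] at h2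
    exact h2
  refine Set.disjoint_left.1 (Ideal.disjoint_nonZeroDivisors_of_mem_minimalPrimes hPmin) hmem ?_
  rw [SetLike.mem_coe, mem_nonZeroDivisors_iff_right]
  intro z hz
  refine hK (Eq.trans ?_ (map_zero (u.baseChange p.ResidueField)).symm)
  refine Eq.trans ?_ hz
  clear hz
  induction z using TensorProduct.induction_on with
  | zero => simp
  | add x y hx hy => rw [map_add, hx, hy, add_mul]
  | tmul k m => simp [u, Algebra.TensorProduct.tmul_mul_tmul, mul_comm]

/-- a nonzero nilpotent in the generic fibre stays nonzero in nearby fibres -/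
theorem exists_tmul_ne_zero [Module B M] [IsScalarTower R B M] [Module.Finite B M] (x : M)
    (hx : ∀ r : R, r • x = 0 → r = 0) :
    ∃ f : R, f ≠ 0 ∧ ∀ p : Ideal R, ∀ _ : p.IsPrime, f ∉ p → (1 : p.ResidueField) ⊗ₜ[R] x ≠ 0 := by
  let N : Submodule B M := Submodule.span B {x}
  haveI : Module.Finite B N := Module.Finite.span_of_finite B (Set.finite_singleton x)
  obtain ⟨f₁, hf₁, hfree₁, -⟩ := FlatLib.generic_freeness_fp (R := R) (S := B) (M := N)
  obtain ⟨f₂, hf₂, hfree₂, -⟩ := FlatLib.generic_freeness_fp (R := R) (S := B) (M := M ⧸ N)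
  let f := f₁ * f₂
  refine ⟨f, mul_ne_zero hf₁ hf₂, fun p hp hfp h0 => ?_⟩
  let A := Localization.Away f
  have hu := IsLocalization.Away.algebraMap_isUnit (S := A) f
  haveI : Module.Free A (A ⊗[R] N) := FlatLib.free_tensor_of_isUnit _
    (isUnit_of_dvd_unit (map_dvd _ ⟨f₂, rfl⟩) hu) hfree₁
  haveI : Module.Free A (A ⊗[R] (M ⧸ N)) := FlatLib.free_tensor_of_isUnit _
    (isUnit_of_dvd_unit (map_dvd _ ⟨f₁, mul_comm _ _⟩) hu) hfree₂
  haveI : Module.Flat R A := IsLocalization.flat A (Submonoid.powers f)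
  let u : N →ₗ[R] M := N.subtype.restrictScalars R
  have huv : Function.Exact u (N.mkQ.restrictScalars R) := LinearMap.exact_subtype_mkQ N
  have huA : Function.Injective (u.baseChange A) :=
    Module.Flat.lTensor_preserves_injective_linearMap (M := A) u N.injective_subtype
  letI : Algebra A p.ResidueField :=
    (IsLocalization.Away.lift (g := algebraMap R p.ResidueField) f (residueField_isUnit hfp)).toAlgebra
  haveI : IsScalarTower R A p.ResidueField :=
    IsScalarTower.of_algebraMap_eq fun r => (IsLocalization.Away.lift_eq f _ r).symm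
  have hK := injective_baseChange u _ huv N.mkQ_surjective A huA p.ResidueField
  let xN : N := ⟨x, Submodule.mem_span_singleton_self x⟩
  have h1 : (1 : p.ResidueField) ⊗ₜ[R] xN = 0 := by
    refine hK (Eq.trans ?_ (map_zero (u.baseChange p.ResidueField)).symm)
    exact (LinearMap.baseChange_tmul (f := u) (1 : p.ResidueField) xN).trans h0
  have h2 : ∀ n : N, (1 : p.ResidueField) ⊗ₜ[R] n = 0 := by
    rintro ⟨n, hn⟩
    obtain ⟨b, rfl⟩ := Submodule.mem_span_singleton.1 hn
    have h4 := congrArg (((DistribSMul.toLinearMap R N b)).baseChange p.ResidueField) h1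
    rw [map_zero, LinearMap.baseChange_tmul] at h4
    exact h4
  have h3 : Subsingleton (p.ResidueField ⊗[R] N) := by
    refine subsingleton_of_forall_eq 0 fun z => ?_
    induction z using TensorProduct.induction_on with
    | zero => rfl
    | add a b ha hb => rw [ha, hb, add_zero]
    | tmul k n =>
      rw [show k ⊗ₜ[R] n = k • ((1 : p.ResidueField) ⊗ₜ[R] n) by rw [TensorProduct.smul_tmul', smul_eq_mul, mul_one],
        h2, smul_zero]
  haveI : Nontrivial (A ⊗[R] N) := by
    refine ⟨(1 : A) ⊗ₜ xN, 0, fun h => ?_⟩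
    obtain ⟨⟨c, n, rfl⟩, hc⟩ := (IsLocalizedModule.eq_zero_iff (Submonoid.powers f) (TensorProduct.mk R A N 1)).1 h
    exact pow_ne_zero n (mul_ne_zero hf₁ hf₂) (hx _ (congrArg Subtype.val hc))
  haveI : Nontrivial (p.ResidueField ⊗[A] (A ⊗[R] N)) := inferInstance
  haveI := h3
  exact not_subsingleton (p.ResidueField ⊗[A] (A ⊗[R] N))
    (TensorProduct.AlgebraTensorModule.cancelBaseChange R A p.ResidueField p.ResidueField N).toEquiv.subsingleton

end GenFibNearLib

end
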