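import Mathlib
import Groth.Agent.GenFibNearLib.Alg

/-!
# Fibres near the generic point: base rings with prime nilradical
-/

set_option autoImplicit false

universe u

open TensorProduct

noncomputable section

namespace GenFibNearLib

variable {R₀ : Type u} [CommRing R₀] {B₀ : Type u} [CommRing B₀] (φ : R₀ →+* B₀)

/-- `Q` lies over the minimal prime of the base -/
def IsGen (Q : Ideal B₀) : Prop := Q.comap φ ≤ nilradical R₀

/-- `Q` is minimal among the primes over the minimal prime of the base -/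
def IsGenMin (Q : Ideal B₀) : Prop :=
  Q.IsPrime ∧ IsGen φ Q ∧ ∀ Q' : Ideal B₀, Q'.IsPrime → Q' ≤ Q → Q' = Q

/-- the extension of the nilradical -/
abbrev nilExt : Ideal B₀ := (nilradical R₀).map φ

theorem nilExt_le (Q : Ideal B₀) [Q.IsPrime] : nilExt φ ≤ Q :=
  Ideal.map_le_iff_le_comap.2 (nilradical_le_prime _)

/-- the algebra over the reduction of the base -/
@[reducible] def redAlg : Algebra (R₀ ⧸ nilradical R₀) (B₀ ⧸ nilExt φ) :=
  (Ideal.quotientMap (nilExt φ) φ Ideal.le_comap_map).toAlgebra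

theorem finiteType_red (hφ : φ.FiniteType) :
    letI := redAlg φ
    Algebra.FiniteType (R₀ ⧸ nilradical R₀) (B₀ ⧸ nilExt φ) := by
  letI := redAlg φ
  have h1 : ((algebraMap (R₀ ⧸ nilradical R₀) (B₀ ⧸ nilExt φ)).comp (Ideal.Quotient.mk _)).FiniteType := by
    change ((Ideal.Quotient.mk (nilExt φ)).comp φ).FiniteType
    exact (RingHom.FiniteType.of_surjective _ Ideal.Quotient.mk_surjective).comp hφ
  exact h1.of_comp_finiteType

variable {φ}

theorem quot_prime (Q : Ideal B₀) [Q.IsPrime] :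
    (Q.map (Ideal.Quotient.mk (nilExt φ))).IsPrime ∧
      (Q.map (Ideal.Quotient.mk (nilExt φ))).comap (Ideal.Quotient.mk (nilExt φ)) = Q :=
  ⟨Ideal.map_isPrime_of_surjective Ideal.Quotient.mk_surjective (by rw [Ideal.mk_ker]; exact nilExt_le φ Q),
    by rw [Ideal.comap_map_of_surjective _ Ideal.Quotient.mk_surjective, ← RingHom.ker_eq_comap_bot, Ideal.mk_ker,
      sup_eq_left]; exact nilExt_le φ Q⟩

theorem isGeneric_iff (Q : Ideal (B₀ ⧸ nilExt φ)) :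
    letI := redAlg φ
    IsGeneric (R := R₀ ⧸ nilradical R₀) Q ↔ IsGen φ (Q.comap (Ideal.Quotient.mk (nilExt φ))) := by
  letI := redAlg φ
  refine ⟨fun h r hr => Ideal.Quotient.eq_zero_iff_mem.1 (h (Ideal.Quotient.mk _ r) ?_), fun h r hr => ?_⟩
  · exact hr
  · obtain ⟨r, rfl⟩ := Ideal.Quotient.mk_surjective r
    exact Ideal.Quotient.eq_zero_iff_mem.2 (h hr)

theorem mk_mem_iff (Q : Ideal B₀) [Q.IsPrime] (b : B₀) :
    Ideal.Quotient.mk (nilExt φ) b ∈ Q.map (Ideal.Quotient.mk (nilExt φ)) ↔ b ∈ Q := by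
  conv_rhs => rw [← (quot_prime (φ := φ) Q).2]
  rfl

theorem isDomain_red (hR : (nilradical R₀).IsPrime) : IsDomain (R₀ ⧸ nilradical R₀) :=
  haveI := hR
  inferInstance

variable (φ) (hR : (nilradical R₀).IsPrime) (hφ : φ.FiniteType)
include hR

theorem closed_empty (I : Ideal B₀) (h : ∀ Q : Ideal B₀, Q.IsPrime → IsGen φ Q → ¬ I ≤ Q) :
    ∃ f : R₀, f ∉ nilradical R₀ ∧ ∀ Q : Ideal B₀, Q.IsPrime → φ f ∉ Q → ¬ I ≤ Q := by
  letI := redAlg φ; haveI := hR
  let π := Ideal.Quotient.mk (nilExt φ)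
  obtain ⟨f, hf, hF⟩ := exists_closed_empty (R := R₀ ⧸ nilradical R₀) (I.map π) fun Q hQ hg hle =>
    h (Q.comap π) inferInstance ((isGeneric_iff Q).1 hg) (Ideal.map_le_iff_le_comap.1 hle)
  obtain ⟨f, rfl⟩ := Ideal.Quotient.mk_surjective f
  refine ⟨f, fun h => hf (Ideal.Quotient.eq_zero_iff_mem.2 h), fun Q hQ hfQ hle => ?_⟩
  haveI := hQ
  exact hF (Q.map π) (quot_prime Q).1 (fun h => hfQ ((mk_mem_iff Q _).1 h)) (Ideal.map_mono hle)

include hφ

theorem generic_le : ∃ f : R₀, f ∉ nilradical R₀ ∧ ∀ Q : Ideal B₀, Q.IsPrime → φ f ∉ Q →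
    ∃ Q₀ : Ideal B₀, Q₀.IsPrime ∧ Q₀ ≤ Q ∧ IsGen φ Q₀ := by
  letI := redAlg φ; haveI := hR; haveI := finiteType_red φ hφ
  let π := Ideal.Quotient.mk (nilExt φ)
  obtain ⟨f, hf, hF⟩ := exists_generic_le (R := R₀ ⧸ nilradical R₀) (B := B₀ ⧸ nilExt φ)
  obtain ⟨f, rfl⟩ := Ideal.Quotient.mk_surjective f
  refine ⟨f, fun h => hf (Ideal.Quotient.eq_zero_iff_mem.2 h), fun Q hQ hfQ => ?_⟩
  haveI := hQ
  obtain ⟨Q₀, hQ₀, hle, hg⟩ := hF (Q.map π) (quot_prime Q).1 (fun h => hfQ ((mk_mem_iff Q _).1 h))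
  exact ⟨Q₀.comap π, inferInstance, (Ideal.comap_mono hle).trans (quot_prime Q).2.le, (isGeneric_iff Q₀).1 hg⟩

theorem prime_over (Q₀ : Ideal B₀) [Q₀.IsPrime] (h₀ : IsGen φ Q₀) {g : B₀} (hg : g ∉ Q₀) :
    ∃ f : R₀, f ∉ nilradical R₀ ∧ ∀ p : Ideal R₀, p.IsPrime → f ∉ p →
      ∃ Q : Ideal B₀, Q.IsPrime ∧ Q₀ ≤ Q ∧ g ∉ Q ∧ Q.comap φ = p := by
  letI := redAlg φ; haveI := hR; haveI := finiteType_red φ hφ
  let π := Ideal.Quotient.mk (nilExt φ)
  haveI := (quot_prime (φ := φ) Q₀).1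
  obtain ⟨f, hf, hF⟩ := exists_prime_over (R := R₀ ⧸ nilradical R₀) (Q₀.map π)
    ((isGeneric_iff _).2 (by rw [(quot_prime Q₀).2]; exact h₀)) (fun h => hg ((mk_mem_iff Q₀ g).1 h))
  obtain ⟨f, rfl⟩ := Ideal.Quotient.mk_surjective f
  refine ⟨f, fun h => hf (Ideal.Quotient.eq_zero_iff_mem.2 h), fun p hp hfp => ?_⟩
  haveI := hp
  have hp' : (p.map (Ideal.Quotient.mk (nilradical R₀))).comap (Ideal.Quotient.mk (nilradical R₀)) = p := by
    rw [Ideal.comap_map_of_surjective _ Ideal.Quotient.mk_surjective, ← RingHom.ker_eq_comap_bot, Ideal.mk_ker,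
      sup_eq_left]
    exact nilradical_le_prime p
  obtain ⟨Q, hQ, hle, hgQ, hover⟩ := hF _
    (Ideal.map_isPrime_of_surjective Ideal.Quotient.mk_surjective (by rw [Ideal.mk_ker]; exact nilradical_le_prime p))
    (fun h => hfp (hp'.le h))
  refine ⟨Q.comap π, inferInstance, (quot_prime Q₀).2.ge.trans (Ideal.comap_mono hle), hgQ, ?_⟩
  rw [← hp', ← hover, Ideal.comap_comap, Ideal.comap_comap]
  rfl

theorem finite_genMin : {Q : Ideal B₀ | IsGenMin φ Q}.Finite := by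
  letI := redAlg φ; haveI := hR; haveI := finiteType_red φ hφ
  let R := R₀ ⧸ nilradical R₀
  let π := Ideal.Quotient.mk (nilExt φ)
  let p : Ideal R := ⊥
  haveI : IsNoetherianRing (p.Fiber (B₀ ⧸ nilExt φ)) := Algebra.FiniteType.isNoetherianRing p.ResidueField _
  let e := PrimeSpectrum.primesOverOrderIsoFiber R (B₀ ⧸ nilExt φ) p
  refine (((minimalPrimes.finite_of_isNoetherianRing (p.Fiber (B₀ ⧸ nilExt φ))).preimage
    PrimeSpectrum.ext_injOn).image fun P => (e.symm P).1.comap π).subset ?_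
  rintro Q ⟨hQ, hg, hmin⟩
  haveI := hQ
  haveI := (quot_prime (φ := φ) Q).1
  have hg' : IsGeneric (R := R) (Q.map π) := (isGeneric_iff _).2 (by rw [(quot_prime Q).2]; exact hg)
  let t : p.primesOver (B₀ ⧸ nilExt φ) := ⟨Q.map π, (quot_prime Q).1,
    ⟨le_antisymm bot_le fun r hr => (Submodule.mem_bot R).2 (hg' r hr)⟩⟩
  refine ⟨e t, ?_, by simp only [OrderIso.symm_apply_apply]; exact (quot_prime Q).2⟩
  obtain ⟨P₁, hP₁, hle⟩ := Ideal.exists_minimalPrimes_le (bot_le : (⊥ : Ideal (p.Fiber (B₀ ⧸ nilExt φ))) ≤ (e t).asIdeal)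
  suffices h : (⟨P₁, hP₁.1.1⟩ : PrimeSpectrum (p.Fiber (B₀ ⧸ nilExt φ))) = e t by
    rw [Set.mem_preimage, ← h]; exact hP₁
  apply e.symm.injective
  rw [OrderIso.symm_apply_apply]
  have hle' := e.symm.monotone (show (⟨P₁, hP₁.1.1⟩ : PrimeSpectrum (p.Fiber (B₀ ⧸ nilExt φ))) ≤ e t from hle)
  rw [OrderIso.symm_apply_apply] at hle'
  generalize e.symm ⟨P₁, hP₁.1.1⟩ = T at hle' ⊢
  haveI := T.2.1
  exact Subtype.ext (Ideal.comap_injective_of_surjective _ Ideal.Quotient.mk_surjective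
    ((hmin _ inferInstance ((Ideal.comap_mono hle').trans (quot_prime Q).2.le)).trans (quot_prime Q).2.symm))
where
  PrimeSpectrum.ext_injOn {A : Type u} [CommRing A] {s : Set (PrimeSpectrum A)} :
      Set.InjOn PrimeSpectrum.asIdeal s := fun _ _ _ _ h => PrimeSpectrum.ext h

theorem not_minimal (I : Ideal B₀) (h : ∀ Q : Ideal B₀, IsGenMin φ Q → ¬ I ≤ Q) :
    ∃ f : R₀, f ∉ nilradical R₀ ∧ ∀ p : Ideal R₀, p.IsPrime → f ∉ p → ∀ Q : Ideal B₀, Q.IsPrime →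
      Q.comap φ = p → I ≤ Q → ∃ Q' : Ideal B₀, Q'.IsPrime ∧ Q' ≤ Q ∧ Q'.comap φ = p ∧ Q' ≠ Q := by
  letI := redAlg φ; haveI := hR; haveI := finiteType_red φ hφ
  let π := Ideal.Quotient.mk (nilExt φ)
  obtain ⟨b, hbI, hb⟩ : ∃ b ∈ I, ∀ Q : Ideal B₀, IsGenMin φ Q → b ∉ Q := by
    by_contra! hne
    have hfin := finite_genMin φ hR hφ
    have hsub : (I : Set B₀) ⊆ ⋃ Q ∈ (↑hfin.toFinset : Set (Ideal B₀)), (Q : Set B₀) := fun b hb => by
      obtain ⟨Q, hQ, hbQ⟩ := hne b hb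
      exact Set.mem_biUnion (by simpa using hQ) hbQ
    obtain ⟨Q, hQ, hIQ⟩ := (Ideal.subset_union_prime (f := fun Q : Ideal B₀ => Q) ⊤ ⊤
      (fun Q hQ _ _ => ((Set.Finite.mem_toFinset hfin).1 hQ).1)).1 hsub
    exact h Q ((Set.Finite.mem_toFinset hfin).1 hQ) hIQ
  obtain ⟨f, hf, hF⟩ := exists_not_mem_minimal (R := R₀ ⧸ nilradical R₀) (π b) fun Q hQ hg hbQ => by
    haveI := hQ.1.1
    refine hb (Q.comap π) ⟨inferInstance, (isGeneric_iff Q).1 hg, fun Q' hQ' hle => le_antisymm hle ?_⟩ hbQ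
    haveI := hQ'
    have h1 : Q'.map π ≤ Q := Ideal.map_le_iff_le_comap.2 hle
    exact (Ideal.comap_mono (hQ.2 ⟨(quot_prime Q').1, bot_le⟩ h1)).trans (quot_prime Q').2.le
  obtain ⟨f, rfl⟩ := Ideal.Quotient.mk_surjective f
  refine ⟨f, fun h => hf (Ideal.Quotient.eq_zero_iff_mem.2 h), fun p hp hfp Q hQ hover hIQ => ?_⟩
  haveI := hp; haveI := hQ
  have hp' : (p.map (Ideal.Quotient.mk (nilradical R₀))).comap (Ideal.Quotient.mk (nilradical R₀)) = p := by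
    rw [Ideal.comap_map_of_surjective _ Ideal.Quotient.mk_surjective, ← RingHom.ker_eq_comap_bot, Ideal.mk_ker,
      sup_eq_left]
    exact nilradical_le_prime p
  have hQp : (Q.map π).comap (algebraMap (R₀ ⧸ nilradical R₀) (B₀ ⧸ nilExt φ)) = p.map (Ideal.Quotient.mk _) := by
    refine Ideal.comap_injective_of_surjective _ Ideal.Quotient.mk_surjective ?_
    rw [hp', Ideal.comap_comap]
    change (Q.map π).comap (π.comp φ) = p
    rw [← Ideal.comap_comap, (quot_prime Q).2, hover]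
  obtain ⟨Q', hQ', hle, hover', hne⟩ := hF _
    (Ideal.map_isPrime_of_surjective Ideal.Quotient.mk_surjective (by rw [Ideal.mk_ker]; exact nilradical_le_prime p))
    (fun h => hfp (hp'.le h)) (Q.map π) (quot_prime Q).1 hQp (Ideal.mem_map_of_mem _ (hIQ hbI))
  refine ⟨Q'.comap π, inferInstance, (Ideal.comap_mono hle).trans (quot_prime Q).2.le, ?_, fun h => hne ?_⟩
  · rw [← hp', ← hover', Ideal.comap_comap, Ideal.comap_comap]; rfl
  · exact Ideal.comap_injective_of_surjective _ Ideal.Quotient.mk_surjective (h.trans (quot_prime Q).2.symm)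

end GenFibNearLib

end
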