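import Mathlib
import Groth.Agent.GenFibNearLib.Alg2

/-!
# Associated points of fibres near the generic point: algebra
-/

set_option autoImplicit false

universe u

open TensorProduct Pointwise

noncomputable section

namespace GenFibNearLib

variable {R : Type u} [CommRing R]

/-- `m` vanishes in the fibre over `p` -/
def ZeroAt (p : Ideal R) {M : Type u} [AddCommGroup M] [Module R M] (m : M) : Prop :=
  ∃ r : R, r ∉ p ∧ r • m ∈ p • (⊤ : Submodule R M)

section
variable {p : Ideal R} {M : Type u} [AddCommGroup M] [Module R M]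

theorem smul_mem_top {r : R} (hr : r ∈ p) (m : M) : r • m ∈ p • (⊤ : Submodule R M) :=
  Submodule.smul_mem_smul hr Submodule.mem_top

theorem zeroAt_zero [p.IsPrime] : ZeroAt p (0 : M) :=
  ⟨1, (Ideal.ne_top_iff_one p).1 ‹p.IsPrime›.ne_top, by simp⟩

theorem zeroAt_add [hp : p.IsPrime] {a b : M} (ha : ZeroAt p a) (hb : ZeroAt p b) : ZeroAt p (a + b) := by
  obtain ⟨r, hr, h⟩ := ha
  obtain ⟨s, hs, h'⟩ := hb
  refine ⟨r * s, fun h => (hp.mem_or_mem h).elim hr hs, ?_⟩
  rw [smul_add]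
  refine add_mem ?_ ?_
  · rw [mul_comm, mul_smul]; exact Submodule.smul_mem _ _ h
  · rw [mul_smul]; exact Submodule.smul_mem _ _ h'

theorem zeroAt_of_smul [hp : p.IsPrime] {r : R} (hr : r ∉ p) {m : M} (h : ZeroAt p (r • m)) : ZeroAt p m := by
  obtain ⟨s, hs, h⟩ := h
  exact ⟨s * r, fun h' => (hp.mem_or_mem h').elim hs hr, by rwa [mul_smul]⟩

theorem map_mem_top {N : Type u} [AddCommGroup N] [Module R N] (φ : M →ₗ[R] N) {m : M}
    (h : m ∈ p • (⊤ : Submodule R M)) : φ m ∈ p • (⊤ : Submodule R N) := by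
  induction h using Submodule.smul_induction_on' with
  | smul r hr m _ => rw [map_smul]; exact smul_mem_top hr _
  | add x _ y _ hx hy => rw [map_add]; exact add_mem hx hy

theorem zeroAt_map {N : Type u} [AddCommGroup N] [Module R N] (φ : M →ₗ[R] N) {m : M} (h : ZeroAt p m) :
    ZeroAt p (φ m) := by
  obtain ⟨r, hr, h⟩ := h
  exact ⟨r, hr, by rw [← map_smul]; exact map_mem_top φ h⟩

theorem one_tmul_eq_zero_iff [p.IsPrime] (m : M) : (1 : p.ResidueField) ⊗ₜ[R] m = 0 ↔ ZeroAt p m := by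
  constructor
  · intro h
    let e := TensorProduct.AlgebraTensorModule.cancelBaseChange R (R ⧸ p) p.ResidueField p.ResidueField M
    have h1 : (1 : p.ResidueField) ⊗ₜ[R ⧸ p] ((1 : R ⧸ p) ⊗ₜ[R] m) = 0 := by
      apply e.injective
      rw [map_zero]
      simp only [e, TensorProduct.AlgebraTensorModule.cancelBaseChange_tmul, one_smul]
      exact h
    obtain ⟨⟨c, hc⟩, hcm⟩ := (IsLocalizedModule.eq_zero_iff (nonZeroDivisors (R ⧸ p))
      (TensorProduct.mk (R ⧸ p) p.ResidueField ((R ⧸ p) ⊗[R] M) 1)).1 h1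
    obtain ⟨r, rfl⟩ := Ideal.Quotient.mk_surjective c
    refine ⟨r, fun hr => nonZeroDivisors.ne_zero hc (Ideal.Quotient.eq_zero_iff_mem.2 hr), ?_⟩
    have h2 : (1 : R ⧸ p) ⊗ₜ[R] (r • m) = 0 := by
      rw [tmul_smul]
      refine Eq.trans ?_ hcm
      change r • ((1 : R ⧸ p) ⊗ₜ[R] m) = Ideal.Quotient.mk p r • ((1 : R ⧸ p) ⊗ₜ[R] m)
      rw [← Ideal.Quotient.algebraMap_eq, algebraMap_smul]
    have h3 := congrArg (TensorProduct.quotTensorEquivQuotSMul M p) h2
    rw [map_zero, ← map_one (Ideal.Quotient.mk p), TensorProduct.quotTensorEquivQuotSMul_mk_tmul, one_smul,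
      Submodule.Quotient.mk_eq_zero] at h3
    exact h3
  · rintro ⟨r, hr, h⟩
    have h1 : ∀ x ∈ p • (⊤ : Submodule R M), (1 : p.ResidueField) ⊗ₜ[R] x = 0 := fun x hx => by
      induction hx using Submodule.smul_induction_on' with
      | smul a ha m _ =>
        rw [tmul_smul, ← algebraMap_smul p.ResidueField, Ideal.algebraMap_residueField_eq_zero.2 ha, zero_smul]
      | add x _ y _ hx hy => rw [tmul_add, hx, hy, add_zero]
    have h2 := h1 _ h
    rw [tmul_smul, ← algebraMap_smul p.ResidueField] at h2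
    exact (isUnit_iff_ne_zero.2 fun h => hr (Ideal.algebraMap_residueField_eq_zero.1 h) :
      IsUnit (algebraMap R p.ResidueField r)).smul_eq_zero.1 h2

end

variable {B : Type u} [CommRing B] [Algebra R B] {M : Type u} [AddCommGroup M] [Module B M] [Module R M]
  [IsScalarTower R B M]

theorem smul_mem_top' {p : Ideal R} (b : B) {m : M} (h : m ∈ p • (⊤ : Submodule R M)) :
    b • m ∈ p • (⊤ : Submodule R M) :=
  map_mem_top ((DistribSMul.toLinearMap R M b)) h

theorem zeroAt_smul {p : Ideal R} (b : B) {m : M} (h : ZeroAt p m) : ZeroAt p (b • m) :=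
  zeroAt_map (DistribSMul.toLinearMap R M b) h

/-- elements killing `m` in the fibre -/
def annAt (p : Ideal R) [p.IsPrime] (m : M) : Ideal B where
  carrier := {b | ZeroAt p (b • m)}
  zero_mem' := by change ZeroAt p ((0 : B) • m); rw [zero_smul]; exact zeroAt_zero
  add_mem' {a b} ha hb := by change ZeroAt p ((a + b) • m); rw [add_smul]; exact zeroAt_add ha hb
  smul_mem' c {b} hb := by
    change ZeroAt p ((c * b) • m)
    rw [mul_smul]
    exact zeroAt_smul c hb

theorem mem_annAt {p : Ideal R} [p.IsPrime] {m : M} {b : B} : b ∈ annAt p m ↔ ZeroAt p (b • m) := Iff.rfl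

theorem map_le_annAt {p : Ideal R} [p.IsPrime] (m : M) : p.map (algebraMap R B) ≤ annAt p m :=
  Ideal.map_le_iff_le_comap.2 fun r hr => ⟨1, (Ideal.ne_top_iff_one p).1 ‹p.IsPrime›.ne_top, by
    rw [one_smul, algebraMap_smul]; exact smul_mem_top hr m⟩

theorem mem_annAt_of_saturated {p : Ideal R} [p.IsPrime] {m : M} {r : R} (hr : r ∉ p) {b : B}
    (h : r • b ∈ annAt p m) : b ∈ annAt p m := by
  rw [mem_annAt, smul_assoc] at h
  exact zeroAt_of_smul hr h

/-- contraction from the fibre ring -/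
theorem exists_smul_of_mem_map (p : Ideal R) [hp : p.IsPrime] (J : Ideal B) (x : p.Fiber B)
    (hx : x ∈ J.map (Algebra.TensorProduct.includeRight : B →ₐ[R] p.Fiber B).toRingHom) :
    ∃ r : R, r ∉ p ∧ ∃ b ∈ J, r • x = (1 : p.ResidueField) ⊗ₜ[R] b := by
  induction hx using Submodule.span_induction with
  | mem x hx =>
    obtain ⟨b, hb, rfl⟩ := hx
    exact ⟨1, (Ideal.ne_top_iff_one p).1 hp.ne_top, b, hb, one_smul _ _⟩
  | zero => exact ⟨1, (Ideal.ne_top_iff_one p).1 hp.ne_top, 0, J.zero_mem, by rw [smul_zero, tmul_zero]⟩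
  | add x y _ _ hx hy =>
    obtain ⟨r, hr, b, hb, he⟩ := hx
    obtain ⟨s, hs, c, hc, he'⟩ := hy
    refine ⟨r * s, fun h => (hp.mem_or_mem h).elim hr hs, s • b + r • c,
      J.add_mem (J.smul_of_tower_mem s hb) (J.smul_of_tower_mem r hc), ?_⟩
    rw [smul_add, tmul_add, tmul_smul, tmul_smul, ← he, ← he', smul_smul, smul_smul, mul_comm s r]
  | smul a x _ hx =>
    obtain ⟨r, hr, b, hb, he⟩ := hx
    obtain ⟨s, hs, c, he'⟩ := Ideal.Fiber.exists_smul_eq_one_tmul p a
    refine ⟨s * r, fun h => (hp.mem_or_mem h).elim hs hr, c * b, J.mul_mem_left c hb, ?_⟩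
    rw [smul_eq_mul, ← smul_mul_smul_comm s a r x, he, he', Algebra.TensorProduct.tmul_mul_tmul, one_mul]

theorem mem_annAt_of_map {p : Ideal R} [hp : p.IsPrime] {m : M} {J : Ideal B} (hJ : J ≤ annAt p m) {g : B}
    (hg : (1 : p.ResidueField) ⊗ₜ[R] g ∈ J.map (Algebra.TensorProduct.includeRight : B →ₐ[R] p.Fiber B).toRingHom) :
    g ∈ annAt p m := by
  obtain ⟨r, hr, b, hb, he⟩ := exists_smul_of_mem_map p J _ hg
  rw [← tmul_smul, ← sub_eq_zero, ← tmul_sub] at he
  obtain ⟨s, hs, hsd⟩ := (one_tmul_eq_zero_iff (r • g - b)).1 he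
  refine mem_annAt_of_saturated (mul_notMem hs hr) ?_
  have h1 : s • (r • g - b) ∈ annAt p m := by
    refine map_le_annAt m ?_
    revert hsd
    generalize s • (r • g - b) = d
    intro hd
    induction hd using Submodule.smul_induction_on' with
    | smul a ha x _ => rw [Algebra.smul_def]; exact Ideal.mul_mem_right _ _ (Ideal.mem_map_of_mem _ ha)
    | add x _ y _ hx hy => exact Ideal.add_mem _ hx hy
  rw [smul_sub, smul_smul] at h1
  exact (Submodule.sub_mem_iff_left _ ((annAt p m).smul_of_tower_mem s (hJ hb))).1 h1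
where
  mul_notMem {a b : R} (ha : a ∉ p) (hb : b ∉ p) : a * b ∉ p := fun h => (hp.mem_or_mem h).elim ha hb

theorem exists_finset_gen [Algebra.FiniteType R B] (p : Ideal R) [p.IsPrime] (I : Ideal B) :
    ∃ G : Finset B, (↑G : Set B) ⊆ I ∧ ∀ (m : M), (∀ g ∈ G, ZeroAt p (g • m)) → ∀ g ∈ I, ZeroAt p (g • m) := by
  classical
  let iR := (Algebra.TensorProduct.includeRight : B →ₐ[R] p.Fiber B).toRingHom
  haveI : IsNoetherianRing (p.Fiber B) := Algebra.FiniteType.isNoetherianRing p.ResidueField _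
  obtain ⟨T, hT, hspan⟩ := (Submodule.fg_span_iff_fg_span_finset_subset (R := p.Fiber B) (iR '' I)).1
    (IsNoetherian.noetherian _)
  obtain ⟨G, hGI, rfl⟩ : ∃ G : Finset B, (↑G : Set B) ⊆ I ∧ G.image iR = T := Finset.subset_set_image_iff.1 hT
  refine ⟨G, hGI, fun m hm g hg => ?_⟩
  have hle : Ideal.span (↑G : Set B) ≤ annAt p m := Ideal.span_le.2 fun g hg => hm g hg
  refine mem_annAt_of_map hle ?_
  rw [Ideal.map_span]
  have h1 : iR g ∈ Submodule.span (p.Fiber B) (iR '' I) := Submodule.subset_span ⟨g, hg, rfl⟩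
  rw [hspan, Finset.coe_image] at h1
  exact h1

/-- maximal annihilators in a fibre -/
theorem exists_maximal_annAt [Algebra.FiniteType R B] (p : Ideal R) [hp : p.IsPrime] {I : Ideal B} {m : M}
    (hm : ¬ ZeroAt p m) (hI : I ≤ annAt p m) :
    ∃ m' : M, (annAt p m' : Ideal B).IsPrime ∧ (annAt p m' : Ideal B).comap (algebraMap R B) = p ∧ I ≤ annAt p m' := by
  let iR := (Algebra.TensorProduct.includeRight : B →ₐ[R] p.Fiber B).toRingHom
  haveI : IsNoetherianRing (p.Fiber B) := Algebra.FiniteType.isNoetherianRing p.ResidueField _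
  let S : Set (Ideal (p.Fiber B)) := {J | ∃ m' : M, ¬ ZeroAt p m' ∧ I ≤ annAt p m' ∧ J = (annAt p m').map iR}
  obtain ⟨J, ⟨m', hm', hIm', rfl⟩, hmax⟩ := set_has_maximal_iff_noetherian.2 ‹IsNoetherianRing (p.Fiber B)› S
    ⟨_, m, hm, hI, rfl⟩
  have hne : (1 : B) ∉ annAt p m' := fun h => hm' (by rwa [mem_annAt, one_smul] at h)
  refine ⟨m', ⟨fun h => hne (h ▸ Submodule.mem_top), fun {a b} hab => ?_⟩, ?_, hIm'⟩
  · by_contra! hor
    obtain ⟨ha, hb⟩ := hor
    have hle : (annAt p m' : Ideal B) ≤ annAt p (b • m') := fun c hc => by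
      rw [mem_annAt, smul_comm]; exact zeroAt_smul b hc
    have ha' : a ∈ annAt p (b • m') := by rw [mem_annAt, ← mul_smul]; exact hab
    have hnlt := hmax _ ⟨b • m', hb, hIm'.trans hle, rfl⟩
    have heq : (annAt p m').map iR = (annAt p (b • m')).map iR :=
      eq_of_le_of_not_lt (Ideal.map_mono hle) hnlt
    refine ha (mem_annAt_of_map le_rfl ?_)
    change iR a ∈ _
    rw [heq]
    exact Ideal.mem_map_of_mem iR ha'
  · refine le_antisymm (fun r hr => by_contra fun hrp => hm' ?_) fun r hr =>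
      map_le_annAt m' (Ideal.mem_map_of_mem _ hr)
    change ZeroAt p (algebraMap R B r • m') at hr
    rw [algebraMap_smul] at hr
    exact zeroAt_of_smul hrp hr

/-! ## local criterion -/

section Local

variable {BL : Type u} [CommRing BL] [Algebra B BL] [Algebra R BL] [IsScalarTower R B BL]
  {ML : Type u} [AddCommGroup ML] [Module BL ML] [Module B ML] [IsScalarTower B BL ML]
  (Q : Ideal B) [Q.IsPrime] [IsLocalization.AtPrime BL Q] (ℓ : M →ₗ[B] ML) [IsLocalizedModule Q.primeCompl ℓ]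

theorem exists_smul_mem_of_mem (p : Ideal R) {z : ML}
    (hz : z ∈ p.map (algebraMap R BL) • (⊤ : Submodule BL ML)) :
    ∃ t : B, t ∉ Q ∧ ∃ w ∈ p • (⊤ : Submodule R M), t • z = ℓ w := by
  let P : Submodule BL ML :=
    { carrier := {z | ∃ t : B, t ∉ Q ∧ ∃ w ∈ p • (⊤ : Submodule R M), t • z = ℓ w}
      zero_mem' := ⟨1, (Ideal.ne_top_iff_one Q).1 ‹Q.IsPrime›.ne_top, 0, zero_mem _, by simp⟩
      add_mem' := by
        rintro z z' ⟨t, ht, w, hw, he⟩ ⟨t', ht', w', hw', he'⟩
        refine ⟨t * t', fun h => (‹Q.IsPrime›.mem_or_mem h).elim ht ht', t' • w + t • w',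
          add_mem (smul_mem_top' t' hw) (smul_mem_top' t hw'), ?_⟩
        rw [map_add, map_smul, map_smul, ← he, ← he', smul_add, mul_smul, mul_smul, smul_comm t t' z]
      smul_mem' := by
        rintro c z ⟨t, ht, w, hw, he⟩
        obtain ⟨⟨b, s⟩, hbs⟩ := IsLocalization.surj Q.primeCompl c
        refine ⟨s.1 * t, fun h => (‹Q.IsPrime›.mem_or_mem h).elim s.2 ht, b • w, smul_mem_top' b hw, ?_⟩
        rw [map_smul, ← he, ← algebraMap_smul BL (s.1 * t), map_mul, smul_smul, ← algebraMap_smul BL b,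
          ← algebraMap_smul BL t, smul_smul, ← hbs]
        congr 1
        ring }
  refine (Submodule.smul_le.2 (fun c hc z _ => ?_) : p.map (algebraMap R BL) • (⊤ : Submodule BL ML) ≤ P) hz
  revert z
  induction hc using Submodule.span_induction with
  | mem c hc =>
    obtain ⟨r, hr, rfl⟩ := hc
    intro z _
    obtain ⟨⟨m, s⟩, hm⟩ := IsLocalizedModule.surj Q.primeCompl ℓ z
    refine ⟨s.1, s.2, r • m, smul_mem_top hr m, ?_⟩
    have hm' : s.1 • z = ℓ m := hm
    rw [IsScalarTower.algebraMap_apply R B BL, algebraMap_smul, smul_comm, hm', ← map_smul, algebraMap_smul]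
  | zero => intro z _; rw [zero_smul]; exact P.zero_mem
  | add a b _ _ ha hb => intro z hz; rw [add_smul]; exact P.add_mem (ha z hz) (hb z hz)
  | smul a b _ hb => intro z hz; rw [smul_eq_mul, mul_smul]; exact P.smul_mem a (hb z hz)

theorem mem_smul_iff (p : Ideal R) (m : M) :
    ℓ m ∈ p.map (algebraMap R BL) • (⊤ : Submodule BL ML) ↔ ∃ t : B, t ∉ Q ∧ t • m ∈ p • (⊤ : Submodule R M) := by
  constructor
  · intro h
    obtain ⟨t, ht, w, hw, he⟩ := exists_smul_mem_of_mem Q ℓ p h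
    rw [← map_smul] at he
    obtain ⟨⟨s, hs⟩, hse⟩ := (IsLocalizedModule.eq_iff_exists Q.primeCompl ℓ).1 he
    refine ⟨s * t, fun h => (‹Q.IsPrime›.mem_or_mem h).elim hs ht, ?_⟩
    rw [mul_smul, show s • t • m = s • w from hse]
    exact smul_mem_top' s hw
  · rintro ⟨t, ht, h⟩
    have h1 : ∀ w ∈ p • (⊤ : Submodule R M), ℓ w ∈ p.map (algebraMap R BL) • (⊤ : Submodule BL ML) := fun w hw => by
      induction hw using Submodule.smul_induction_on' with
      | smul a ha m _ =>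
        rw [← algebraMap_smul B a m, map_smul, ← algebraMap_smul BL (algebraMap R B a),
          ← IsScalarTower.algebraMap_apply]
        exact Submodule.smul_mem_smul (Ideal.mem_map_of_mem _ ha) Submodule.mem_top
      | add x _ y _ hx hy => rw [map_add]; exact add_mem hx hy
    have h2 := h1 _ h
    rw [map_smul, ← algebraMap_smul BL t] at h2
    obtain ⟨u, hu⟩ := IsLocalization.map_units BL (⟨t, ht⟩ : Q.primeCompl)
    have h3 := Submodule.smul_mem (p.map (algebraMap R BL) • (⊤ : Submodule BL ML)) (↑u⁻¹ : BL) h2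
    rwa [← show (u : BL) = algebraMap B BL t from hu, smul_smul, Units.inv_mul, one_smul] at h3

include ℓ in
theorem smul_mk_eq_zero_iff (p : Ideal R) (b : B) (m : M) :
    algebraMap B BL b • (Submodule.Quotient.mk (ℓ m) : ML ⧸ p.map (algebraMap R BL) • (⊤ : Submodule BL ML)) = 0 ↔
      ∃ t : B, t ∉ Q ∧ t • b • m ∈ p • (⊤ : Submodule R M) := by
  rw [← Submodule.Quotient.mk_smul, Submodule.Quotient.mk_eq_zero, algebraMap_smul, ← map_smul, mem_smul_iff Q ℓ]

include ℓ in
/-- a prime maximal annihilator gives an associated prime -/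
theorem isAssociated_of_annAt [IsLocalRing BL] (p : Ideal R) [p.IsPrime] {m : M}
    (hQ : annAt p m = Q) (hQp : Q.comap (algebraMap R B) = p) :
    IsAssociatedPrime (IsLocalRing.maximalIdeal BL) (ML ⧸ p.map (algebraMap R BL) • (⊤ : Submodule BL ML)) := by
  refine ⟨inferInstance, Submodule.Quotient.mk (ℓ m), ?_⟩
  have hne : Submodule.colon (⊥ : Submodule BL (ML ⧸ p.map (algebraMap R BL) • (⊤ : Submodule BL ML)))
      {Submodule.Quotient.mk (ℓ m)} = IsLocalRing.maximalIdeal BL := by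
    refine le_antisymm (IsLocalRing.le_maximalIdeal fun h => ?_) fun c hc => ?_
    · have h1 : (1 : BL) ∈ (⊤ : Ideal BL) := trivial
      rw [← h, Submodule.mem_colon_singleton, Submodule.mem_bot, ← map_one (algebraMap B BL),
        smul_mk_eq_zero_iff Q ℓ] at h1
      obtain ⟨t, ht, h1⟩ := h1
      refine ht (hQ.le ⟨1, (Ideal.ne_top_iff_one p).1 ‹p.IsPrime›.ne_top, ?_⟩)
      rwa [one_smul] at h1 ⊢
    · obtain ⟨⟨b, s⟩, hbs⟩ := IsLocalization.surj Q.primeCompl c
      have hb : b ∈ Q := by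
        rw [← IsLocalization.AtPrime.to_map_mem_maximal_iff BL Q b, ← hbs]
        exact Ideal.mul_mem_right _ _ hc
      obtain ⟨r, hr, hrb⟩ := mem_annAt.1 (hQ.ge hb)
      rw [Submodule.mem_colon_singleton, Submodule.mem_bot]
      refine (IsLocalization.map_units BL s).smul_eq_zero.1 ?_
      rw [smul_smul, mul_comm, hbs, smul_mk_eq_zero_iff Q ℓ]
      refine ⟨algebraMap R B r, fun h => hr (hQp.le h), ?_⟩
      rw [algebraMap_smul]
      exact hrb
  rw [hne, (IsLocalRing.maximalIdeal.isMaximal BL).isPrime.radical]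

include ℓ in
/-- elements of an associated prime kill some element of the fibre -/
theorem exists_annAt_of_isAssociated [IsLocalRing BL] (p : Ideal R) [p.IsPrime]
    (hQp : Q.comap (algebraMap R B) = p) {G : Finset B} (hG : ∀ g ∈ G, g ∈ Q)
    (h : IsAssociatedPrime (IsLocalRing.maximalIdeal BL) (ML ⧸ p.map (algebraMap R BL) • (⊤ : Submodule BL ML))) :
    ∃ m : M, ¬ ZeroAt p m ∧ ∀ g ∈ G, ZeroAt p (g • m) := by
  classical
  obtain ⟨-, x, hx⟩ := h
  have hxne : x ≠ 0 := fun h0 => by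
    subst h0
    refine (IsLocalRing.maximalIdeal.isMaximal BL).ne_top (hx.trans ?_)
    rw [Ideal.radical_eq_top, Ideal.eq_top_iff_one, Submodule.mem_colon_singleton, Submodule.mem_bot, smul_zero]
  have key : ∀ G' : Finset B, (∀ g ∈ G', g ∈ Q) →
      ∃ y : BL, y • x ≠ 0 ∧ ∀ g ∈ G', algebraMap B BL g • y • x = 0 := by
    intro G'
    induction G' using Finset.induction_on with
    | empty => exact fun _ => ⟨1, by rwa [one_smul], fun g hg => absurd hg (Finset.notMem_empty g)⟩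
    | insert a s ha ih =>
      intro hs
      obtain ⟨y, hy, hys⟩ := ih fun g hg => hs g (Finset.mem_insert_of_mem hg)
      have hmem : algebraMap B BL a ∈ IsLocalRing.maximalIdeal BL :=
        (IsLocalization.AtPrime.to_map_mem_maximal_iff BL Q a).2 (hs a (Finset.mem_insert_self a s))
      rw [hx] at hmem
      obtain ⟨N, hN⟩ := hmem
      rw [Submodule.mem_colon_singleton, Submodule.mem_bot] at hN
      have hex : ∃ k, algebraMap B BL a ^ k • y • x = 0 := ⟨N, by rw [smul_comm, hN, smul_zero]⟩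
      have hk : Nat.find hex ≠ 0 := fun h0 => hy (by
        have := Nat.find_spec hex
        rwa [h0, pow_zero, one_smul] at this)
      refine ⟨algebraMap B BL a ^ (Nat.find hex - 1) * y, ?_, fun g hg => ?_⟩
      · rw [mul_smul]
        exact Nat.find_min hex (Nat.sub_one_lt hk)
      · rcases Finset.mem_insert.1 hg with rfl | hg
        · rw [mul_smul, ← mul_smul (algebraMap B BL g), ← pow_succ', Nat.sub_add_cancel (Nat.pos_of_ne_zero hk)]
          exact Nat.find_spec hex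
        · rw [mul_smul, smul_comm, hys g hg, smul_zero]
  obtain ⟨y, hy, hyG⟩ := key G hG
  obtain ⟨z, hz⟩ := Submodule.Quotient.mk_surjective _ (y • x)
  obtain ⟨⟨m, s⟩, hm⟩ := IsLocalizedModule.surj Q.primeCompl ℓ z
  have hm' : (Submodule.Quotient.mk (ℓ m) : ML ⧸ p.map (algebraMap R BL) • (⊤ : Submodule BL ML)) =
      algebraMap B BL s.1 • y • x := by
    rw [← hz, ← Submodule.Quotient.mk_smul, algebraMap_smul]
    exact congrArg _ hm.symm
  have hgm : ∀ g : G, ∃ t : B, t ∉ Q ∧ t • g.1 • m ∈ p • (⊤ : Submodule R M) := fun g =>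
    (smul_mk_eq_zero_iff Q ℓ p g.1 m).1 (by rw [hm', smul_comm, hyG g.1 g.2, smul_zero])
  choose t ht htm using hgm
  refine ⟨(∏ g, t g) • m, fun hz0 => hy ?_, fun g hg => ⟨1, (Ideal.ne_top_iff_one p).1 ‹p.IsPrime›.ne_top, ?_⟩⟩
  · obtain ⟨r, hr, hrm⟩ := hz0
    have h0 : (Submodule.Quotient.mk (ℓ m) : ML ⧸ p.map (algebraMap R BL) • (⊤ : Submodule BL ML)) = 0 := by
      rw [Submodule.Quotient.mk_eq_zero, mem_smul_iff Q ℓ]
      refine ⟨algebraMap R B r * ∏ g, t g, fun h => ?_, by rw [mul_smul, algebraMap_smul]; exact hrm⟩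
      rcases ‹Q.IsPrime›.mem_or_mem h with h | h
      · exact hr (hQp.le h)
      · obtain ⟨g, -, hg⟩ := ‹Q.IsPrime›.prod_mem_iff.1 h
        exact ht g hg
    rw [hm'] at h0
    exact (IsLocalization.map_units BL s).smul_eq_zero.1 h0
  · rw [one_smul, ← Finset.prod_erase_mul _ _ (Finset.mem_univ (⟨g, hg⟩ : G)), mul_smul, smul_comm]
    exact smul_mem_top' _ (by rw [smul_comm]; exact htm ⟨g, hg⟩)

end Local

/-! ## near the generic point -/

section Domain

variable [IsDomain R] [Algebra.FiniteType R B] [Module.Finite B M]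

theorem zeroAt_bot {m : M} (h : ZeroAt (⊥ : Ideal R) m) : ∃ r : R, r ≠ 0 ∧ r • m = 0 := by
  obtain ⟨r, hr, h⟩ := h
  exact ⟨r, fun h0 => hr (h0 ▸ Submodule.zero_mem _), by simpa using h⟩

theorem exists_inj_near (I : Ideal B)
    (h : ∀ m : M, (∀ g ∈ I, ZeroAt (⊥ : Ideal R) (g • m)) → ZeroAt (⊥ : Ideal R) m) :
    ∃ f : R, f ≠ 0 ∧ ∀ p : Ideal R, p.IsPrime → f ∉ p →
      ∀ m : M, (∀ g ∈ I, ZeroAt p (g • m)) → ZeroAt p m := by
  classical
  haveI : (⊥ : Ideal R).IsPrime := Ideal.isPrime_bot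
  obtain ⟨G, hGI, hG⟩ := exists_finset_gen (M := M) (⊥ : Ideal R) I
  let uB : M →ₗ[B] (G → M) := LinearMap.pi fun g => DistribSMul.toLinearMap B M g.1
  obtain ⟨f₁, hf₁, hfree₁, -⟩ := FlatLib.generic_freeness_fp (R := R) (S := B) (M := M)
  obtain ⟨f₂, hf₂, hfree₂, -⟩ := FlatLib.generic_freeness_fp (R := R) (S := B) (M := (G → M) ⧸ LinearMap.range uB)
  let f := f₁ * f₂
  have hf : f ≠ 0 := mul_ne_zero hf₁ hf₂
  refine ⟨f, hf, fun p hp hfp m hm => ?_⟩
  let A := Localization.Away f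
  have hu := IsLocalization.Away.algebraMap_isUnit (S := A) f
  haveI : Module.Free A (A ⊗[R] M) := FlatLib.free_tensor_of_isUnit _
    (isUnit_of_dvd_unit (map_dvd _ ⟨f₂, rfl⟩) hu) hfree₁
  haveI : Module.Free A (A ⊗[R] ((G → M) ⧸ LinearMap.range uB)) := FlatLib.free_tensor_of_isUnit _
    (isUnit_of_dvd_unit (map_dvd _ ⟨f₁, mul_comm _ _⟩) hu) hfree₂
  let v : M →ₗ[R] (G → M) := uB.restrictScalars R
  let w : (G → M) →ₗ[R] ((G → M) ⧸ LinearMap.range uB) := (LinearMap.range uB).mkQ.restrictScalars R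
  have hvw : Function.Exact v w := LinearMap.exact_map_mkQ_range uB
  have huA : Function.Injective (v.baseChange A) := by
    rw [injective_iff_map_eq_zero]
    intro z hz
    obtain ⟨⟨m, c, n, rfl⟩, hm⟩ := IsLocalizedModule.surj (Submonoid.powers f) (TensorProduct.mk R A M 1) z
    have hm' : (f ^ n) • z = (1 : A) ⊗ₜ[R] m := hm
    suffices h0 : (1 : A) ⊗ₜ[R] m = 0 by
      rw [h0, ← algebraMap_smul A, map_pow] at hm'
      exact (hu.pow n).smul_eq_zero.1 hm'
    have h1 : (1 : A) ⊗ₜ[R] (v m) = 0 := by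
      have := congrArg (v.baseChange A) hm'
      rw [LinearMap.map_smul_of_tower, hz, smul_zero] at this
      exact (LinearMap.baseChange_tmul (f := v) (1 : A) m).symm.trans this.symm
    obtain ⟨⟨c, k, rfl⟩, hc⟩ :=
      (IsLocalizedModule.eq_zero_iff (Submonoid.powers f) (TensorProduct.mk R A (G → M) 1)).1 h1
    have hfn : ∀ n : ℕ, f ^ n ∉ (⊥ : Ideal R) := fun n hn => pow_ne_zero n hf hn
    have hzm : ZeroAt (⊥ : Ideal R) m := h m (hG m fun g hg => ⟨f ^ k, hfn k, by
      rw [show f ^ k • g • m = 0 from congrFun hc ⟨g, hg⟩]; exact zero_mem _⟩)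
    obtain ⟨r, hr, hrm⟩ := zeroAt_bot hzm
    obtain ⟨j, hj⟩ := pow_smul_eq_zero (M := M) hf hr hrm
    exact (IsLocalizedModule.eq_zero_iff (Submonoid.powers f) (TensorProduct.mk R A M 1)).2 ⟨⟨f ^ j, j, rfl⟩, hj⟩
  letI : Algebra A p.ResidueField :=
    (IsLocalization.Away.lift (g := algebraMap R p.ResidueField) f (residueField_isUnit hfp)).toAlgebra
  haveI : IsScalarTower R A p.ResidueField :=
    IsScalarTower.of_algebraMap_eq fun r => (IsLocalization.Away.lift_eq f _ r).symm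
  haveI : Module.Flat A (A ⊗[R] ((G → M) ⧸ LinearMap.range uB)) := inferInstance
  have hK := injective_baseChange v w hvw (LinearMap.range uB).mkQ_surjective A huA p.ResidueField
  have hv : ZeroAt p (v m) := by
    rw [show v m = ∑ g : G, Pi.single g (g.1 • m) from (Finset.univ_sum_single (v m)).symm]
    exact Finset.sum_induction _ (ZeroAt p) (fun a b => zeroAt_add) zeroAt_zero fun g _ =>
      zeroAt_map (LinearMap.single R (fun _ : G => M) g) (hm g.1 (hGI g.2))
  refine (one_tmul_eq_zero_iff m).1 (hK (Eq.trans ?_ (map_zero (v.baseChange p.ResidueField)).symm))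
  exact (LinearMap.baseChange_tmul (f := v) (1 : p.ResidueField) m).trans ((one_tmul_eq_zero_iff (v m)).2 hv)

theorem exists_not_inj_near (I : Ideal B) (m : M) (hm : ¬ ZeroAt (⊥ : Ideal R) m)
    (hI : ∀ g ∈ I, ZeroAt (⊥ : Ideal R) (g • m)) :
    ∃ f : R, f ≠ 0 ∧ ∀ p : Ideal R, p.IsPrime → f ∉ p → ¬ ZeroAt p m ∧ ∀ g ∈ I, ZeroAt p (g • m) := by
  obtain ⟨f₁, hf₁, hF₁⟩ := exists_tmul_ne_zero (R := R) (B := B) m fun r hr => by
    by_contra hr0
    exact hm ⟨r, hr0, by rw [hr]; exact zero_mem _⟩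
  obtain ⟨f₂, hf₂, hfree₂, -⟩ := FlatLib.generic_freeness_fp (R := R) (S := B) (M := M)
  refine ⟨f₁ * f₂, mul_ne_zero hf₁ hf₂, fun p hp hfp => ?_⟩
  haveI := hp
  refine ⟨fun hz => hF₁ p hp (fun h => hfp (p.mul_mem_right _ h)) ((one_tmul_eq_zero_iff m).2 hz), fun g hg => ?_⟩
  obtain ⟨r, hr, hrg⟩ := zeroAt_bot (hI g hg)
  obtain ⟨n, hn⟩ := pow_smul_eq_zero (M := M) hf₂ hr hrg
  exact ⟨f₂ ^ n, fun h => hfp (p.mul_mem_left _ (hp.mem_of_pow_mem n h)), by rw [hn]; exact zero_mem _⟩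

end Domain

end GenFibNearLib

end
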