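import Mathlib
import Groth.Agent.GenFibNearLib.AssAlg

/-!
# Associated points of fibres: base rings with prime nilradical
-/

set_option autoImplicit false

universe u

open Pointwise

noncomputable section

namespace GenFibNearLib

variable {R : Type u} [CommRing R] {B : Type u} [CommRing B] [Algebra R B]
  {M : Type u} [AddCommGroup M] [Module B M] [Module R M] [IsScalarTower R B M]

theorem nilExt_smul_le {p : Ideal R} [p.IsPrime] {m : M}
    (hm : m ∈ nilExt (algebraMap R B) • (⊤ : Submodule B M)) : m ∈ p • (⊤ : Submodule R M) := by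
  let P : Submodule B M := { carrier := {m | m ∈ p • (⊤ : Submodule R M)}
                             zero_mem' := Submodule.zero_mem (p • (⊤ : Submodule R M))
                             add_mem' := fun ha hb => Submodule.add_mem (p • (⊤ : Submodule R M)) ha hb
                             smul_mem' := fun b _ h => smul_mem_top' b h }
  refine (Submodule.smul_le.2 (fun c hc z _ => ?_) : nilExt (algebraMap R B) • (⊤ : Submodule B M) ≤ P) hm
  revert z
  induction hc using Submodule.span_induction with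
  | mem c hc =>
    obtain ⟨r, hr, rfl⟩ := hc
    intro z _
    change algebraMap R B r • z ∈ p • (⊤ : Submodule R M)
    rw [algebraMap_smul]
    exact smul_mem_top (nilradical_le_prime p hr) z
  | zero => intro z _; rw [zero_smul]; exact P.zero_mem
  | add a b _ _ ha hb => intro z hz; rw [add_smul]; exact P.add_mem (ha z hz) (hb z hz)
  | smul a b _ hb => intro z hz; rw [smul_eq_mul, mul_smul]; exact P.smul_mem a (hb z hz)

section Red

variable (R B M)

/-- the reduction of the module -/
abbrev RedMod : Type u := M ⧸ (nilExt (algebraMap R B) • (⊤ : Submodule B M))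

/-- scalars from the reduced base -/
@[reducible] def redModule : Module (R ⧸ nilradical R) (RedMod R B M) :=
  Module.compHom _ (Ideal.quotientMap (nilExt (algebraMap R B)) (algebraMap R B) Ideal.le_comap_map)

variable {R B M}

theorem red_mk_smul (r : R) (m : M) :
    letI := redModule R B M
    Ideal.Quotient.mk (nilradical R) r • (Submodule.Quotient.mk m : RedMod R B M) = Submodule.Quotient.mk (r • m) := by
  letI := redModule R B M
  change Ideal.Quotient.mk (nilExt (algebraMap R B)) (algebraMap R B r) • (Submodule.Quotient.mk m : RedMod R B M) = _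
  rw [← algebraMap_smul B r m, Submodule.Quotient.mk_smul]
  rfl

theorem zeroAt_red_iff (p : Ideal R) [p.IsPrime] (q : Ideal (R ⧸ nilradical R))
    (hq : ∀ r, Ideal.Quotient.mk (nilradical R) r ∈ q ↔ r ∈ p) (m : M) :
    letI := redModule R B M
    ZeroAt q (Submodule.Quotient.mk m : RedMod R B M) ↔ ZeroAt p m := by
  letI := redModule R B M
  constructor
  · rintro ⟨s, hs, h⟩
    obtain ⟨r, rfl⟩ := Ideal.Quotient.mk_surjective s
    refine ⟨r, fun hr => hs ((hq r).2 hr), ?_⟩
    rw [red_mk_smul] at h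
    have key : ∀ z ∈ q • (⊤ : Submodule (R ⧸ nilradical R) (RedMod R B M)),
        ∃ w ∈ p • (⊤ : Submodule R M), z = Submodule.Quotient.mk w := fun z hz => by
      induction hz using Submodule.smul_induction_on' with
      | smul a ha x _ =>
        obtain ⟨a, rfl⟩ := Ideal.Quotient.mk_surjective a
        obtain ⟨x, rfl⟩ := Submodule.Quotient.mk_surjective _ x
        exact ⟨a • x, smul_mem_top ((hq a).1 ha) x, red_mk_smul a x⟩
      | add x _ y _ hx hy =>
        obtain ⟨w, hw, rfl⟩ := hx
        obtain ⟨w', hw', rfl⟩ := hy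
        exact ⟨w + w', add_mem hw hw', rfl⟩
    obtain ⟨w, hw, he⟩ := key _ h
    have hd := nilExt_smul_le (p := p) ((Submodule.Quotient.eq _).1 he)
    simpa using add_mem hd hw
  · rintro ⟨r, hr, h⟩
    refine ⟨Ideal.Quotient.mk _ r, fun h' => hr ((hq r).1 h'), ?_⟩
    rw [red_mk_smul]
    clear hr
    generalize r • m = z at h ⊢
    induction h using Submodule.smul_induction_on' with
    | smul a ha x _ => rw [← red_mk_smul]; exact smul_mem_top ((hq a).2 ha) _
    | add x _ y _ hx hy => rw [Submodule.Quotient.mk_add]; exact add_mem hx hy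

variable [Algebra.FiniteType R B] [Module.Finite B M]

theorem exists_near (hR : (nilradical R).IsPrime) (I : Ideal B)
    (h : ∀ m : M, (∀ g ∈ I, ZeroAt (nilradical R) (g • m)) → ZeroAt (nilradical R) m) :
    ∃ f : R, f ∉ nilradical R ∧ ∀ p : Ideal R, p.IsPrime → f ∉ p →
      ∀ m : M, (∀ g ∈ I, ZeroAt p (g • m)) → ZeroAt p m := by
  letI := redAlg (algebraMap R B)
  letI := redModule R B M
  haveI := hR
  haveI := finiteType_red (algebraMap R B) (RingHom.finiteType_algebraMap.2 ‹_›)
  haveI : IsScalarTower (R ⧸ nilradical R) (B ⧸ nilExt (algebraMap R B)) (RedMod R B M) :=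
    IsScalarTower.of_algebraMap_smul fun _ _ => rfl
  haveI : Module.Finite (B ⧸ nilExt (algebraMap R B)) (RedMod R B M) :=
    Module.Finite.of_restrictScalars_finite B _ _
  have h0 : ∀ r, Ideal.Quotient.mk (nilradical R) r ∈ (⊥ : Ideal _) ↔ r ∈ nilradical R := fun r => by
    rw [Submodule.mem_bot]; exact Ideal.Quotient.eq_zero_iff_mem
  obtain ⟨f, hf, hF⟩ := exists_inj_near (M := RedMod R B M) (I.map (Ideal.Quotient.mk (nilExt (algebraMap R B))))
    fun n hn => by
      obtain ⟨m, rfl⟩ := Submodule.Quotient.mk_surjective _ n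
      refine (zeroAt_red_iff (nilradical R) _ h0 m).2 (h m fun g hg => (zeroAt_red_iff (B := B) (nilradical R) _ h0 (g • m)).1 ?_)
      exact hn _ (Ideal.mem_map_of_mem _ hg)
  obtain ⟨f, rfl⟩ := Ideal.Quotient.mk_surjective f
  refine ⟨f, fun h => hf (Ideal.Quotient.eq_zero_iff_mem.2 h), fun p hp hfp m hm => ?_⟩
  haveI := hp
  have hq : ∀ r, Ideal.Quotient.mk (nilradical R) r ∈ p.map (Ideal.Quotient.mk (nilradical R)) ↔ r ∈ p := fun r =>
    (Ideal.mem_quotient_iff_mem (nilradical_le_prime p))
  refine (zeroAt_red_iff p _ hq m).1 (hF _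
    (Ideal.map_isPrime_of_surjective Ideal.Quotient.mk_surjective (by rw [Ideal.mk_ker]; exact nilradical_le_prime p))
    (fun h => hfp ((hq f).1 h)) _ fun g hg => ?_)
  haveI : (p.map (Ideal.Quotient.mk (nilradical R))).IsPrime :=
    Ideal.map_isPrime_of_surjective Ideal.Quotient.mk_surjective (by rw [Ideal.mk_ker]; exact nilradical_le_prime p)
  obtain ⟨g, hgI, rfl⟩ := (Ideal.mem_map_iff_of_surjective _ Ideal.Quotient.mk_surjective).1 hg
  exact (zeroAt_red_iff p _ hq (g • m)).2 (hm g hgI)

theorem exists_not_near (hR : (nilradical R).IsPrime) (I : Ideal B) (m : M) (hm : ¬ ZeroAt (nilradical R) m)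
    (hI : ∀ g ∈ I, ZeroAt (nilradical R) (g • m)) :
    ∃ f : R, f ∉ nilradical R ∧ ∀ p : Ideal R, p.IsPrime → f ∉ p →
      ¬ ZeroAt p m ∧ ∀ g ∈ I, ZeroAt p (g • m) := by
  letI := redAlg (algebraMap R B)
  letI := redModule R B M
  haveI := hR
  haveI := finiteType_red (algebraMap R B) (RingHom.finiteType_algebraMap.2 ‹_›)
  haveI : IsScalarTower (R ⧸ nilradical R) (B ⧸ nilExt (algebraMap R B)) (RedMod R B M) :=
    IsScalarTower.of_algebraMap_smul fun _ _ => rfl
  haveI : Module.Finite (B ⧸ nilExt (algebraMap R B)) (RedMod R B M) :=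
    Module.Finite.of_restrictScalars_finite B _ _
  have h0 : ∀ r, Ideal.Quotient.mk (nilradical R) r ∈ (⊥ : Ideal _) ↔ r ∈ nilradical R := fun r => by
    rw [Submodule.mem_bot]; exact Ideal.Quotient.eq_zero_iff_mem
  obtain ⟨f, hf, hF⟩ := exists_not_inj_near (M := RedMod R B M)
    (I.map (Ideal.Quotient.mk (nilExt (algebraMap R B)))) (Submodule.Quotient.mk m)
    (fun h => hm ((zeroAt_red_iff (nilradical R) _ h0 m).1 h)) fun g hg => by
      obtain ⟨g, hgI, rfl⟩ := (Ideal.mem_map_iff_of_surjective _ Ideal.Quotient.mk_surjective).1 hg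
      exact (zeroAt_red_iff (nilradical R) _ h0 (g • m)).2 (hI g hgI)
  obtain ⟨f, rfl⟩ := Ideal.Quotient.mk_surjective f
  refine ⟨f, fun h => hf (Ideal.Quotient.eq_zero_iff_mem.2 h), fun p hp hfp => ?_⟩
  haveI := hp
  have hq : ∀ r, Ideal.Quotient.mk (nilradical R) r ∈ p.map (Ideal.Quotient.mk (nilradical R)) ↔ r ∈ p := fun r =>
    (Ideal.mem_quotient_iff_mem (nilradical_le_prime p))
  obtain ⟨h1, h2⟩ := hF _
    (Ideal.map_isPrime_of_surjective Ideal.Quotient.mk_surjective (by rw [Ideal.mk_ker]; exact nilradical_le_prime p))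
    (fun h => hfp ((hq f).1 h))
  exact ⟨fun h => h1 ((zeroAt_red_iff p _ hq m).2 h),
    fun g hg => (zeroAt_red_iff p _ hq (g • m)).1 (h2 _ (Ideal.mem_map_of_mem _ hg))⟩

end Red

end GenFibNearLib

end
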