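import Mathlib
import Groth.Agent.GenFibNearLib.Alg2
import Groth.Agent.AssPointLib.Push
import Groth.Agent.GenFibLib.Basic

/-!
# Fibres near the generic point: schemes
-/

set_option autoImplicit false

universe u

open CategoryTheory AlgebraicGeometry TopologicalSpace Opposite

noncomputable section

namespace GenFibNearLib

variable {X Y : Scheme.{u}} (f : X ⟶ Y) [IrreducibleSpace Y]

theorem genericPoint_mem {U : Y.Opens} (hU : (U : Set Y).Nonempty) : genericPoint Y ∈ U := by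
  obtain ⟨y, hy⟩ := hU
  exact (genericPoint_specializes y).mem_open U.2 hy

/-- An affine open around the generic point: its ring has prime nilradical, which is the generic point. -/
theorem nilradical_eq (W : Y.Opens) (hW : IsAffineOpen W) (hη : genericPoint Y ∈ W) :
    nilradical Γ(Y, W) = (hW.primeIdealOf ⟨_, hη⟩).asIdeal := by
  refine le_antisymm (nilradical_le_prime _) ?_
  rw [nilradical_eq_sInf]
  refine le_sInf fun q (hq : q.IsPrime) => ?_
  have h : hW.fromSpec (hW.primeIdealOf ⟨_, hη⟩) ⤳ hW.fromSpec ⟨q, hq⟩ := by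
    rw [hW.fromSpec_primeIdealOf]; exact genericPoint_specializes _
  exact (PrimeSpectrum.le_iff_specializes _ _).2 (hW.fromSpec.isEmbedding.isInducing.specializes_iff.1 h)

theorem nilradical_isPrime (W : Y.Opens) (hW : IsAffineOpen W) (hη : genericPoint Y ∈ W) :
    (nilradical Γ(Y, W)).IsPrime := by
  rw [nilradical_eq W hW hη]; exact (hW.primeIdealOf ⟨_, hη⟩).2

variable {W : Y.Opens} (hW : IsAffineOpen W) (hη : genericPoint Y ∈ W) {V : X.Opens} (hV : IsAffineOpen V)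
  (e : V ≤ f ⁻¹ᵁ W)

include hW hη in
theorem apply_eq_generic_iff (Q : PrimeSpectrum Γ(X, V)) :
    f (hV.fromSpec Q) = genericPoint Y ↔ IsGen (f.appLE W V e).hom Q.asIdeal := by
  rw [AssPointLib.apply_fromSpec f hW hV e]
  refine Iff.trans (Eq.congr_right (hW.fromSpec_primeIdealOf ⟨_, hη⟩).symm) ?_
  refine Iff.trans hW.fromSpec.isEmbedding.injective.eq_iff ?_
  unfold IsGen
  rw [nilradical_eq W hW hη]
  refine ⟨fun h => (congrArg PrimeSpectrum.asIdeal h).le, fun h => PrimeSpectrum.ext (le_antisymm h ?_)⟩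
  rw [← nilradical_eq W hW hη]
  exact nilradical_le_prime _

include hW in
theorem apply_mem_basicOpen_iff (r : Γ(Y, W)) (Q : PrimeSpectrum Γ(X, V)) :
    f (hV.fromSpec Q) ∈ Y.basicOpen r ↔ (f.appLE W V e).hom r ∉ Q.asIdeal := by
  rw [AssPointLib.apply_fromSpec f hW hV e]
  change _ ∈ hW.fromSpec ⁻¹ᵁ Y.basicOpen r ↔ _
  rw [hW.fromSpec_preimage_basicOpen r]
  exact Iff.rfl

include hW in
theorem generic_mem_basicOpen {r : Γ(Y, W)} (hη : genericPoint Y ∈ W) (hr : r ∉ nilradical Γ(Y, W)) :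
    genericPoint Y ∈ Y.basicOpen r := by
  have h : hW.primeIdealOf ⟨_, hη⟩ ∈ hW.fromSpec ⁻¹ᵁ Y.basicOpen r := by
    rw [hW.fromSpec_preimage_basicOpen]
    change r ∉ (hW.primeIdealOf ⟨_, hη⟩).asIdeal
    rw [← nilradical_eq W hW hη]
    exact hr
  have h2 : hW.fromSpec (hW.primeIdealOf ⟨_, hη⟩) ∈ Y.basicOpen r := h
  rwa [hW.fromSpec_primeIdealOf] at h2

theorem exists_le_of_specializes {x' : X} {Q : PrimeSpectrum Γ(X, V)} (h : x' ⤳ hV.fromSpec Q) :
    ∃ Q' : PrimeSpectrum Γ(X, V), hV.fromSpec Q' = x' ∧ Q'.asIdeal ≤ Q.asIdeal := by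
  have hx : x' ∈ V := h.mem_open V.2 (AssPointLib.fromSpec_mem hV Q)
  refine ⟨hV.primeIdealOf ⟨x', hx⟩, hV.fromSpec_primeIdealOf _, (PrimeSpectrum.le_iff_specializes _ _).2 ?_⟩
  refine hV.fromSpec.isEmbedding.isInducing.specializes_iff.1 ?_
  rw [hV.fromSpec_primeIdealOf]
  exact h

theorem specializes_of_le {Q' Q : PrimeSpectrum Γ(X, V)} (h : Q'.asIdeal ≤ Q.asIdeal) :
    hV.fromSpec Q' ⤳ hV.fromSpec Q :=
  ((PrimeSpectrum.le_iff_specializes _ _).1 h).map hV.fromSpec.continuous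

variable [LocallyOfFiniteType f]

/-- combine the conditions on finitely many charts -/
theorem exists_open_of_charts [QuasiCompact f] (P : X → Prop)
    (h : ∀ (W : Y.Opens) (hW : IsAffineOpen W) (V : X.Opens) (hV : IsAffineOpen V) (e : V ≤ f ⁻¹ᵁ W),
      genericPoint Y ∈ W → ∃ r : Γ(Y, W), r ∉ nilradical Γ(Y, W) ∧
        ∀ Q : PrimeSpectrum Γ(X, V), (f.appLE W V e).hom r ∉ Q.asIdeal → P (hV.fromSpec Q)) :
    ∃ U : Y.Opens, genericPoint Y ∈ U ∧ ∀ x : X, f x ∈ U → P x := by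
  classical
  obtain ⟨W, hW, hη, -⟩ := exists_isAffineOpen_mem_and_subset (x := genericPoint Y) (U := ⊤) trivial
  choose V hV hxV hVW using fun x : (f ⁻¹ᵁ W : X.Opens) =>
    exists_isAffineOpen_mem_and_subset (x := (x : X)) (U := f ⁻¹ᵁ W) x.2
  obtain ⟨t, ht⟩ := (f.isCompact_preimage hW.isCompact).elim_finite_subcover
    (fun x => (V x : Set X)) (fun x => (V x).2) fun x hx => Set.mem_iUnion.2 ⟨⟨x, hx⟩, hxV ⟨x, hx⟩⟩
  choose r hr hP using fun x => h W hW (V x) (hV x) (hVW x) hη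
  refine ⟨Y.basicOpen (∏ x ∈ t, r x), ?_, fun z hz => ?_⟩
  · refine generic_mem_basicOpen hW hη fun hmem => ?_
    obtain ⟨x, -, hx⟩ := (nilradical_isPrime W hW hη).prod_mem_iff.1 hmem
    exact hr x hx
  · have hzW : f z ∈ W := Y.basicOpen_le _ hz
    obtain ⟨x, hx, hzx⟩ := Set.mem_iUnion₂.1 (ht hzW)
    obtain ⟨Q, rfl⟩ : z ∈ Set.range (hV x).fromSpec := by rw [(hV x).range_fromSpec]; exact hzx
    refine hP x Q fun hmem => (apply_mem_basicOpen_iff f hW (hV x) (hVW x) _ Q).1 hz ?_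
    rw [map_prod]
    exact Ideal.prod_mem (I := Q.asIdeal) hx hmem

/-- near the generic point every point has a generization in the generic fibre -/
theorem exists_open_generization [QuasiCompact f] :
    ∃ U : Y.Opens, genericPoint Y ∈ U ∧ ∀ x : X, f x ∈ U → ∃ x₀, x₀ ⤳ x ∧ f x₀ = genericPoint Y := by
  refine exists_open_of_charts f _ fun W hW V hV e hη => ?_
  obtain ⟨r, hr, hF⟩ := generic_le _ (nilradical_isPrime W hW hη) (f.finiteType_appLE hW hV e)
  refine ⟨r, hr, fun Q hQ => ?_⟩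
  obtain ⟨Q₀, hQ₀, hle, hg⟩ := hF Q.asIdeal Q.2 hQ
  exact ⟨hV.fromSpec ⟨Q₀, hQ₀⟩, specializes_of_le hV hle, (apply_eq_generic_iff f hW hη hV e _).2 hg⟩

/-- a closed set missing the generic fibre misses nearby fibres -/
theorem exists_open_disjoint [QuasiCompact f] {Z : Set X} (hZ : IsClosed Z)
    (h : ∀ x ∈ Z, f x ≠ genericPoint Y) : ∃ U : Y.Opens, genericPoint Y ∈ U ∧ ∀ x : X, f x ∈ U → x ∉ Z := by
  refine exists_open_of_charts f _ fun W hW V hV e hη => ?_
  obtain ⟨I, hI⟩ := (PrimeSpectrum.isClosed_iff_zeroLocus_ideal _).1 (hZ.preimage hV.fromSpec.continuous)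
  have hI' : ∀ Q : PrimeSpectrum Γ(X, V), hV.fromSpec Q ∈ Z ↔ I ≤ Q.asIdeal := fun Q =>
    (Set.ext_iff.1 hI Q).trans Iff.rfl
  obtain ⟨r, hr, hF⟩ := closed_empty (f.appLE W V e).hom (nilradical_isPrime W hW hη) I fun Q hQ hg hle =>
    h _ ((hI' ⟨Q, hQ⟩).2 hle) ((apply_eq_generic_iff f hW hη hV e ⟨Q, hQ⟩).2 hg)
  exact ⟨r, hr, fun Q hQ hmem => hF Q.asIdeal Q.2 hQ ((hI' Q).1 hmem)⟩

/-- an open neighbourhood of a point of the generic fibre meets the nearby fibres inside its closure -/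
theorem exists_open_nonempty (x₀ : X) (h₀ : f x₀ = genericPoint Y) {O : Set X} (hO : IsOpen O) (hx₀ : x₀ ∈ O) :
    ∃ U : Y.Opens, genericPoint Y ∈ U ∧ ∀ y ∈ U, ∃ x, x₀ ⤳ x ∧ x ∈ O ∧ f x = y := by
  obtain ⟨W, hW, hη, -⟩ := exists_isAffineOpen_mem_and_subset (x := genericPoint Y) (U := ⊤) trivial
  obtain ⟨V, hV, hxV, hVW⟩ := exists_isAffineOpen_mem_and_subset (x := x₀) (U := f ⁻¹ᵁ W)
    (show f x₀ ∈ W from h₀ ▸ hη)
  let Q₀ := hV.primeIdealOf ⟨x₀, hxV⟩
  obtain ⟨-, ⟨g, rfl⟩, hg, hgO⟩ := PrimeSpectrum.isTopologicalBasis_basic_opens.exists_subset_of_mem_open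
    (show Q₀ ∈ hV.fromSpec ⁻¹' O by
      change hV.fromSpec Q₀ ∈ O
      rw [hV.fromSpec_primeIdealOf]; exact hx₀) (hO.preimage hV.fromSpec.continuous)
  haveI := Q₀.2
  obtain ⟨r, hr, hF⟩ := prime_over (f.appLE W V hVW).hom (nilradical_isPrime W hW hη)
    (f.finiteType_appLE hW hV hVW) Q₀.asIdeal
    ((apply_eq_generic_iff f hW hη hV hVW Q₀).1 (by rw [hV.fromSpec_primeIdealOf]; exact h₀)) (g := g) hg
  refine ⟨Y.basicOpen r, ?_, fun y hy => ?_⟩
  · exact generic_mem_basicOpen hW hη hr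
  · have hyW : y ∈ W := Y.basicOpen_le _ hy
    obtain ⟨p, rfl⟩ : y ∈ Set.range hW.fromSpec := by rw [hW.range_fromSpec]; exact hyW
    have hrp : r ∉ p.asIdeal := by
      change p ∈ hW.fromSpec ⁻¹ᵁ Y.basicOpen r at hy
      rw [hW.fromSpec_preimage_basicOpen] at hy
      exact hy
    obtain ⟨Q, hQ, hle, hgQ, hover⟩ := hF p.asIdeal p.2 hrp
    refine ⟨hV.fromSpec ⟨Q, hQ⟩, ?_, hgO (show g ∉ Q from hgQ), ?_⟩
    · rw [← show hV.fromSpec Q₀ = x₀ from hV.fromSpec_primeIdealOf ⟨x₀, hxV⟩]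
      exact specializes_of_le hV hle
    · rw [AssPointLib.apply_fromSpec f hW hV hVW]
      exact congrArg _ (PrimeSpectrum.ext hover)

/-- a closed set with no maximal point of the generic fibre has no maximal point of nearby fibres -/
theorem exists_open_notMaximal [QuasiCompact f] {Z : Set X} (hZ : IsClosed Z)
    (h : ∀ x ∈ Z, f x = genericPoint Y → ∃ x', x' ⤳ x ∧ x' ≠ x ∧ f x' = genericPoint Y) :
    ∃ U : Y.Opens, genericPoint Y ∈ U ∧
      ∀ x : X, f x ∈ U → x ∈ Z → ∃ x', x' ⤳ x ∧ x' ≠ x ∧ f x' = f x := by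
  refine exists_open_of_charts f _ fun W hW V hV e hη => ?_
  obtain ⟨I, hI⟩ := (PrimeSpectrum.isClosed_iff_zeroLocus_ideal _).1 (hZ.preimage hV.fromSpec.continuous)
  have hI' : ∀ Q : PrimeSpectrum Γ(X, V), hV.fromSpec Q ∈ Z ↔ I ≤ Q.asIdeal := fun Q =>
    (Set.ext_iff.1 hI Q).trans Iff.rfl
  obtain ⟨r, hr, hF⟩ := not_minimal (f.appLE W V e).hom (nilradical_isPrime W hW hη) (f.finiteType_appLE hW hV e) I
    fun Q hQ hle => by
      obtain ⟨x', hx', hne, -⟩ := h _ ((hI' ⟨Q, hQ.1⟩).2 hle) ((apply_eq_generic_iff f hW hη hV e ⟨Q, hQ.1⟩).2 hQ.2.1)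
      obtain ⟨Q', rfl, hle'⟩ := exists_le_of_specializes hV hx'
      exact hne (congrArg _ (PrimeSpectrum.ext (hQ.2.2 _ Q'.2 hle')))
  refine ⟨r, hr, fun Q hQ hmem => ?_⟩
  obtain ⟨Q', hQ', hle, hover, hne⟩ := hF _ (Q.comap (f.appLE W V e).hom).2 hQ Q.asIdeal Q.2 rfl ((hI' Q).1 hmem)
  refine ⟨hV.fromSpec ⟨Q', hQ'⟩, specializes_of_le hV hle, fun he => hne ?_, ?_⟩
  · exact congrArg PrimeSpectrum.asIdeal (hV.fromSpec.isEmbedding.injective he)
  · rw [AssPointLib.apply_fromSpec f hW hV e, AssPointLib.apply_fromSpec f hW hV e]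
    exact congrArg _ (PrimeSpectrum.ext hover)

/-- points of a fibre -/
theorem fiberι_apply {y : Y} (w : f.fiber y) : f (f.fiberι y w) = y := by
  have : f.fiberι y w ∈ Set.range (f.fiberι y) := ⟨w, rfl⟩
  rw [Scheme.Hom.range_fiberι] at this
  exact this

theorem exists_fiber_point {y : Y} {x : X} (hx : f x = y) : ∃ w : f.fiber y, f.fiberι y w = x := by
  have : x ∈ Set.range (f.fiberι y) := by rw [Scheme.Hom.range_fiberι]; exact hx
  exact this

theorem specializes_fiber_iff {y : Y} {a b : f.fiber y} : a ⤳ b ↔ f.fiberι y a ⤳ f.fiberι y b :=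
  (f.fiberι y).isEmbedding.isInducing.specializes_iff.symm

/-- finitely many components in fibres of morphisms of finite type -/
theorem finite_components [QuasiCompact f] (y : Y) : (irreducibleComponents (f.fiber y)).Finite := by
  haveI : LocallyOfFiniteType (f.fiberToSpecResidueField y) :=
    MorphismProperty.pullback_snd _ _ inferInstance
  haveI : QuasiCompact (f.fiberToSpecResidueField y) := MorphismProperty.pullback_snd _ _ inferInstance
  haveI : IsLocallyNoetherian (f.fiber y) :=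
    LocallyOfFiniteType.isLocallyNoetherian (f.fiberToSpecResidueField y)
  haveI : CompactSpace (f.fiber y) := QuasiCompact.compactSpace_of_compactSpace (f.fiberToSpecResidueField y)
  haveI : IsNoetherian (f.fiber y) := {}
  exact NoetherianSpace.finite_irreducibleComponents

end GenFibNearLib

end
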