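import Mathlib
import Groth.Agent.GenFibNearLib.Scheme
import Groth.Agent.GenFibNearLib.AssRed
import Groth.Agent.AssPointLib.Dense
import Groth.Agent.FlatLib.FibreStalk

/-!
# Schematically dense opens in fibres near the generic point
-/

set_option autoImplicit false

universe u

open CategoryTheory AlgebraicGeometry TopologicalSpace Opposite

noncomputable section

namespace GenFibNearLib

/-- schematic density through the inclusion -/
theorem isSchematicallyDense_iff_dominant {X : Scheme.{u}} (U : X.Opens) [QuasiCompact U.ι] :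
    CInt.IsSchematicallyDense U ↔ IsSchemeTheoreticallyDominant U.ι := by
  have key : ∀ V : X.Opens, Function.Injective (U.ι.app V) ↔
      Function.Injective (X.presheaf.map (homOfLE (inf_le_left : V ⊓ U ≤ V)).op) := fun V => by
    have he : V ⊓ U = U.ι ''ᵁ U.ι ⁻¹ᵁ V := by
      rw [Scheme.Hom.image_preimage_eq_opensRange_inf, Scheme.Opens.opensRange_ι, inf_comm]
    rw [Scheme.Opens.ι_app]
    have h2 : X.presheaf.map (homOfLE (inf_le_left : V ⊓ U ≤ V)).op =
        X.presheaf.map (homOfLE (Scheme.Hom.image_preimage_le (f := U.ι) (U := V))).op ≫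
          X.presheaf.map (eqToHom he).op := by
      rw [← Functor.map_comp]; rfl
    rw [h2]
    exact ((ConcreteCategory.bijective_of_isIso (X.presheaf.map (eqToHom he).op)).1.of_comp_iff _).symm
  constructor
  · intro h
    refine ⟨Scheme.IdealSheafData.ext (funext fun V => ?_)⟩
    rw [Scheme.Hom.ker_apply]
    simp only [Scheme.IdealSheafData.ideal_bot, Pi.bot_apply]
    exact (RingHom.injective_iff_ker_eq_bot _).1 ((key V.1).2 (h V.1))
  · intro h V
    exact (key V).1 (U.ι.app_injective V)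

/-- associated maximal ideal through a surjection -/
theorem isAssociated_surj_iff {A C : Type u} [CommRing A] [CommRing C] [IsLocalRing A] [IsLocalRing C] (π : A →+* C)
    (hπ : Function.Surjective π) (N : Submodule A A) (hN : ∀ a, a ∈ N ↔ π a = 0) :
    IsAssociatedPrime (IsLocalRing.maximalIdeal C) C ↔ IsAssociatedPrime (IsLocalRing.maximalIdeal A) (A ⧸ N) := by
  have hmax : (IsLocalRing.maximalIdeal C).comap π = IsLocalRing.maximalIdeal A :=
    haveI := Ideal.comap_isMaximal_of_surjective π hπ (K := IsLocalRing.maximalIdeal C)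
    IsLocalRing.eq_maximalIdeal inferInstance
  have key : ∀ a : A, (Submodule.colon (⊥ : Submodule C C) {π a}).comap π =
      Submodule.colon (⊥ : Submodule A (A ⧸ N)) {Submodule.Quotient.mk a} := fun a => by
    ext c
    rw [Ideal.mem_comap, Submodule.mem_colon_singleton, Submodule.mem_colon_singleton, Submodule.mem_bot,
      Submodule.mem_bot, ← Submodule.Quotient.mk_smul, Submodule.Quotient.mk_eq_zero, hN, smul_eq_mul,
      smul_eq_mul, map_mul]
  constructor
  · rintro ⟨-, x, hx⟩
    obtain ⟨a, rfl⟩ := hπ x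
    refine ⟨inferInstance, Submodule.Quotient.mk a, ?_⟩
    rw [← key, ← Ideal.comap_radical, ← hx, hmax]
  · rintro ⟨-, x, hx⟩
    obtain ⟨a, rfl⟩ := Submodule.Quotient.mk_surjective _ x
    refine ⟨inferInstance, π a, Ideal.comap_injective_of_surjective π hπ ?_⟩
    rw [hmax, Ideal.comap_radical, key, hx]

variable {X Y : Scheme.{u}} (f : X ⟶ Y)

/-- associated points of fibres -/
def FibAss (x : X) : Prop :=
  IsAssociatedPrime (IsLocalRing.maximalIdeal ((f.fiber (f x)).presheaf.stalk (f.asFiber x)))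
    ((f.fiber (f x)).presheaf.stalk (f.asFiber x))

theorem fibAss_iff {W : Y.Opens} (hW : IsAffineOpen W) {V : X.Opens} (hV : IsAffineOpen V) (e : V ≤ f ⁻¹ᵁ W)
    (x : X) (hx : x ∈ V) :
    letI := (f.appLE W V e).hom.toAlgebra
    let Q := (hV.primeIdealOf ⟨x, hx⟩).asIdeal
    FibAss f x ↔ IsAssociatedPrime (IsLocalRing.maximalIdeal (Localization.AtPrime Q))
      (Localization.AtPrime Q ⧸ (Q.comap (algebraMap Γ(Y, W) Γ(X, V))).map
          (algebraMap Γ(Y, W) (Localization.AtPrime Q)) • (⊤ : Submodule (Localization.AtPrime Q) (Localization.AtPrime Q))) := by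
  letI := (f.appLE W V e).hom.toAlgebra
  intro Q
  obtain ⟨eq⟩ := FlatLib.nonempty_fibreStalk_ringEquiv f hW hV e rfl x hx
  refine isAssociated_surj_iff (eq.symm.toRingHom.comp (Ideal.Quotient.mk _))
    (eq.symm.surjective.comp Ideal.Quotient.mk_surjective) _ fun a => ?_
  rw [Ideal.smul_eq_mul, Ideal.mul_top, RingHom.comp_apply, RingEquiv.toRingHom_eq_coe, RingEquiv.coe_toRingHom,
    map_eq_zero_iff _ eq.symm.injective, Ideal.Quotient.eq_zero_iff_mem]

variable [LocallyOfFiniteType f]

theorem isLocallyNoetherian_fiber (y : Y) : IsLocallyNoetherian (f.fiber y) :=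
  haveI : LocallyOfFiniteType (f.fiberToSpecResidueField y) := MorphismProperty.pullback_snd _ _ inferInstance
  LocallyOfFiniteType.isLocallyNoetherian (f.fiberToSpecResidueField y)

theorem dominant_iff (U : X.Opens) (y : Y) :
    IsSchemeTheoreticallyDominant (f.fiberι y ⁻¹ᵁ U).ι ↔ ∀ x : X, f x = y → FibAss f x → x ∈ U := by
  haveI := isLocallyNoetherian_fiber f y
  rw [← isSchematicallyDense_iff_dominant, AssPointLib.isSchematicallyDense_iff]
  constructor
  · intro h x hx hass
    subst hx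
    have := h _ hass
    change f.fiberι (f x) (f.asFiber x) ∈ U at this
    rwa [Scheme.Hom.fiberι_asFiber] at this
  · intro h z hz
    change f.fiberι y z ∈ U
    obtain ⟨x, hx⟩ : ∃ x, x = f.fiberι y z := ⟨_, rfl⟩
    rw [← hx]
    obtain rfl : f x = y := by
      have : f.fiberι y z ∈ Set.range (f.fiberι y) := ⟨z, rfl⟩
      rw [Scheme.Hom.range_fiberι, ← hx] at this
      exact this
    have hz' : f.asFiber x = z := (f.fiberι _).isEmbedding.injective (by rw [Scheme.Hom.fiberι_asFiber, ← hx])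
    subst hz'
    exact h x rfl hz

variable [IrreducibleSpace Y] [QuasiCompact f]

theorem exists_open_fibAss (U : X.Opens) (h : ∀ x : X, f x = genericPoint Y → FibAss f x → x ∈ U) :
    ∃ O : Y.Opens, genericPoint Y ∈ O ∧ ∀ x : X, f x ∈ O → FibAss f x → x ∈ U := by
  refine exists_open_of_charts f _ fun W hW V hV e hη => ?_
  letI := (f.appLE W V e).hom.toAlgebra
  haveI : Algebra.FiniteType Γ(Y, W) Γ(X, V) :=
    RingHom.finiteType_algebraMap.1 (f.finiteType_appLE hW hV e)
  obtain ⟨I, hI⟩ := (PrimeSpectrum.isClosed_iff_zeroLocus_ideal _).1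
    (U.2.isClosed_compl.preimage hV.fromSpec.continuous)
  have hI' : ∀ Q : PrimeSpectrum Γ(X, V), hV.fromSpec Q ∉ U ↔ I ≤ Q.asIdeal := fun Q =>
    (Set.ext_iff.1 hI Q).trans Iff.rfl
  obtain ⟨r, hr, hF⟩ := exists_near (M := Γ(X, V)) (nilradical_isPrime W hW hη) I fun m hm => by
    haveI := nilradical_isPrime W hW hη
    by_contra hne
    obtain ⟨m', hQ, hQp, hle⟩ := exists_maximal_annAt (nilradical Γ(Y, W)) (I := I) hne hm
    let Q : PrimeSpectrum Γ(X, V) := ⟨annAt (nilradical Γ(Y, W)) m', hQ⟩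
    have hfQ : f (hV.fromSpec Q) = genericPoint Y :=
      (apply_eq_generic_iff f hW hη hV e Q).2 (show Q.asIdeal.comap _ ≤ _ from hQp.le)
    refine (hI' Q).2 hle (h _ hfQ ((fibAss_iff f hW hV e _ (AssPointLib.fromSpec_mem hV Q)).2 ?_))
    rw [AssPointLib.primeIdealOf_fromSpec hV Q]
    have hQp' : Q.asIdeal.comap (algebraMap Γ(Y, W) Γ(X, V)) = nilradical Γ(Y, W) := hQp
    rw [hQp']
    exact isAssociated_of_annAt Q.asIdeal (Algebra.linearMap Γ(X, V) (Localization.AtPrime Q.asIdeal))
      (nilradical Γ(Y, W)) (m := m') rfl hQp'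
  refine ⟨r, hr, fun Q hQ hass => ?_⟩
  by_contra hxU
  have h1 := (fibAss_iff f hW hV e _ (AssPointLib.fromSpec_mem hV Q)).1 hass
  rw [AssPointLib.primeIdealOf_fromSpec hV Q] at h1
  haveI := (Q.comap (algebraMap Γ(Y, W) Γ(X, V))).2
  obtain ⟨G, hGI, hG⟩ := exists_finset_gen (M := Γ(X, V)) (Q.asIdeal.comap (algebraMap Γ(Y, W) Γ(X, V))) I
  obtain ⟨m, hm, hGm⟩ := exists_annAt_of_isAssociated Q.asIdeal
    (Algebra.linearMap Γ(X, V) (Localization.AtPrime Q.asIdeal))
    (Q.asIdeal.comap (algebraMap Γ(Y, W) Γ(X, V))) rfl (G := G) (fun g hg => (hI' Q).1 hxU (hGI hg)) h1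
  exact hm (hF _ inferInstance hQ m (hG m hGm))

end GenFibNearLib

end
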