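import Mathlib
import Groth.Prelude.Def_MoreMor
import Groth.Agent.GenFibNearLib.Scheme
import Groth.Agent.GenFibNearLib.AssRed
import Groth.Agent.AssPointLib.Basic

/-!
# Associated points of fibres near the generic point: schemes
-/

set_option autoImplicit false

universe u

open CategoryTheory AlgebraicGeometry TopologicalSpace Opposite DevissLib

noncomputable section

namespace GenFibNearLib

variable {X Y : Scheme.{u}} (f : X ⟶ Y) (F : X.Modules)

/-- the algebra of a chart -/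
@[reducible] def chartAlg {W : Y.Opens} {V : X.Opens} (e : V ≤ f ⁻¹ᵁ W) : Algebra Γ(Y, W) Γ(X, V) :=
  (f.appLE W V e).hom.toAlgebra

/-- sections as a module over the base -/
@[reducible] def chartMod {W : Y.Opens} {V : X.Opens} (e : V ≤ f ⁻¹ᵁ W) : Module Γ(Y, W) Γ(F, V) :=
  Module.compHom _ (f.appLE W V e).hom

theorem chartTower {W : Y.Opens} {V : X.Opens} (e : V ≤ f ⁻¹ᵁ W) :
    letI := chartAlg f e
    letI := chartMod f F e
    IsScalarTower Γ(Y, W) Γ(X, V) Γ(F, V) :=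
  letI := chartAlg f e
  letI := chartMod f F e
  IsScalarTower.of_algebraMap_smul fun _ _ => rfl

variable {W : Y.Opens} (hW : IsAffineOpen W) {V : X.Opens} (hV : IsAffineOpen V) (e : V ≤ f ⁻¹ᵁ W)
  {x : X} (hx : x ∈ V)

include hW in
theorem stalk_ideal_eq :
    Ideal.map (f.stalkMap x).hom (IsLocalRing.maximalIdeal (Y.presheaf.stalk (f x))) =
      (hW.primeIdealOf ⟨f x, e hx⟩).asIdeal.map
        ((X.presheaf.germ V x hx).hom.comp (f.appLE W V e).hom) := by
  letI := Y.presheaf.algebra_section_stalk (⟨f x, e hx⟩ : W)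
  haveI : IsLocalization.AtPrime (Y.presheaf.stalk (f x)) (hW.primeIdealOf ⟨f x, e hx⟩).asIdeal :=
    hW.isLocalization_stalk ⟨f x, e hx⟩
  rw [← IsLocalization.AtPrime.map_eq_maximalIdeal (hW.primeIdealOf ⟨f x, e hx⟩).asIdeal, Ideal.map_map]
  congr 1
  ext a
  change (f.stalkMap x).hom (Y.presheaf.germ W (f x) (e hx) a) = X.presheaf.germ V x hx ((f.appLE W V e).hom a)
  refine (Scheme.Hom.germ_stalkMap_apply f W x (e hx) a).trans ?_
  exact (TopCat.Presheaf.germ_res_apply X.presheaf (homOfLE e) x hx _).symm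

/-- sections act on the stalk -/
@[reducible] def stalkMod : Module Γ(X, V) ((St x).obj F) :=
  Module.compHom _ (X.presheaf.germ V x hx).hom

/-- the germ map, linearly -/
def gmLin :
    letI := stalkMod F hx
    Γ(F, V) →ₗ[Γ(X, V)] (St x).obj F :=
  letI := stalkMod F hx
  { toFun := gm F x hx
    map_add' := fun a b => map_add (F.presheaf.germ V x hx).hom a b
    map_smul' := fun r s => gm_smul F x hx r s }

include hV in
theorem isLocalizedModule_gmLin [Coh.IsQCoh F] :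
    letI := stalkMod F hx
    IsLocalizedModule (hV.primeIdealOf ⟨x, hx⟩).asIdeal.primeCompl (gmLin F hx) := by
  letI := stalkMod F hx
  letI := X.presheaf.algebra_section_stalk (⟨x, hx⟩ : V)
  haveI : IsLocalization.AtPrime (X.presheaf.stalk x) (hV.primeIdealOf ⟨x, hx⟩).asIdeal :=
    hV.isLocalization_stalk ⟨x, hx⟩
  refine ⟨fun s => ?_, fun a => ?_, fun {a b} hab => ?_⟩
  · have hu := AssPointLib.isUnit_germ hV hx s.2
    refine (Module.End.isUnit_iff _).2 ⟨fun a b h => hu.smul_left_cancel.1 h, fun a => ?_⟩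
    refine ⟨((hu.unit⁻¹ : (X.presheaf.stalk x)ˣ) : X.presheaf.stalk x) • a, ?_⟩
    change X.presheaf.germ V x hx s.1 • (((hu.unit⁻¹ : (X.presheaf.stalk x)ˣ) : X.presheaf.stalk x) • a) = a
    rw [smul_smul, IsUnit.mul_val_inv, one_smul]
  · obtain ⟨v, s, hv, hs⟩ := AssPointLib.exists_smul_eq_gm hV hx a
    obtain ⟨⟨c, d⟩, hcd⟩ := IsLocalization.surj (hV.primeIdealOf ⟨x, hx⟩).asIdeal.primeCompl v
    have hc : c ∈ (hV.primeIdealOf ⟨x, hx⟩).asIdeal.primeCompl := fun hmem => by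
      refine (IsLocalRing.mem_maximalIdeal _).1 (AssPointLib.germ_mem_maximal hV hx hmem) ?_
      have := hv.mul (AssPointLib.isUnit_germ hV hx d.2)
      rwa [show v * X.presheaf.germ V x hx d.1 = X.presheaf.germ V x hx c from hcd] at this
    refine ⟨⟨d.1 • s, ⟨c, hc⟩⟩, ?_⟩
    change X.presheaf.germ V x hx c • a = gm F x hx (d.1 • s)
    rw [gm_smul, ← hs, smul_smul, mul_comm,
      show v * X.presheaf.germ V x hx d.1 = X.presheaf.germ V x hx c from hcd]
  · have h : gm F x hx (a - b) = 0 :=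
      (map_sub (gmLin F hx) a b).trans (sub_eq_zero.2 hab)
    obtain ⟨t, ht, hts⟩ := (gm_eq_zero_iff hV x hx _).1 h
    exact ⟨⟨t, ht⟩, sub_eq_zero.1 ((smul_sub t a b).symm.trans hts)⟩

theorem comap_primeIdealOf' :
    (hV.primeIdealOf ⟨x, hx⟩).asIdeal.comap (f.appLE W V e).hom = (hW.primeIdealOf ⟨f x, e hx⟩).asIdeal :=
  congrArg PrimeSpectrum.asIdeal (IsAffineOpen.comap_primeIdealOf_appLE W hW V hV e hx)

include hW hV in
theorem mem_relAss_of_annAt [Coh.IsQCoh F] (m : Γ(F, V))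
    (h : letI := chartAlg f e; letI := chartMod f F e; haveI := chartTower f F e
      annAt (hW.primeIdealOf ⟨f x, e hx⟩).asIdeal m = (hV.primeIdealOf ⟨x, hx⟩).asIdeal) :
    x ∈ MoreMor.relAss f F := by
  letI := chartAlg f e; letI := chartMod f F e; haveI := chartTower f F e
  letI := stalkMod F hx
  haveI := isLocalizedModule_gmLin F hV hx
  letI := X.presheaf.algebra_section_stalk (⟨x, hx⟩ : V)
  haveI : IsLocalization.AtPrime (X.presheaf.stalk x) (hV.primeIdealOf ⟨x, hx⟩).asIdeal :=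
    hV.isLocalization_stalk ⟨x, hx⟩
  letI : Algebra Γ(Y, W) (X.presheaf.stalk x) :=
    ((X.presheaf.germ V x hx).hom.comp (f.appLE W V e).hom).toAlgebra
  haveI : IsScalarTower Γ(Y, W) Γ(X, V) (X.presheaf.stalk x) := IsScalarTower.of_algebraMap_eq fun _ => rfl
  haveI : IsScalarTower Γ(X, V) (X.presheaf.stalk x) ((St x).obj F) :=
    IsScalarTower.of_algebraMap_smul fun _ _ => rfl
  have h1 := isAssociated_of_annAt (ML := (St x).obj F) (BL := X.presheaf.stalk x)
    (hV.primeIdealOf ⟨x, hx⟩).asIdeal (gmLin F hx) (hW.primeIdealOf ⟨f x, e hx⟩).asIdeal h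
    (comap_primeIdealOf' f hW hV e hx)
  rw [RingHom.algebraMap_toAlgebra, ← stalk_ideal_eq f hW e hx] at h1
  exact h1

include hW hV in
theorem exists_annAt_of_mem_relAss [Coh.IsQCoh F] {G : Finset Γ(X, V)}
    (hG : ∀ g ∈ G, g ∈ (hV.primeIdealOf ⟨x, hx⟩).asIdeal) (h : x ∈ MoreMor.relAss f F) :
    letI := chartAlg f e; letI := chartMod f F e; haveI := chartTower f F e
    ∃ m : Γ(F, V), ¬ ZeroAt (hW.primeIdealOf ⟨f x, e hx⟩).asIdeal m ∧
      ∀ g ∈ G, ZeroAt (hW.primeIdealOf ⟨f x, e hx⟩).asIdeal (g • m) := by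
  letI := chartAlg f e; letI := chartMod f F e; haveI := chartTower f F e
  letI := stalkMod F hx
  haveI := isLocalizedModule_gmLin F hV hx
  letI := X.presheaf.algebra_section_stalk (⟨x, hx⟩ : V)
  haveI : IsLocalization.AtPrime (X.presheaf.stalk x) (hV.primeIdealOf ⟨x, hx⟩).asIdeal :=
    hV.isLocalization_stalk ⟨x, hx⟩
  letI : Algebra Γ(Y, W) (X.presheaf.stalk x) :=
    ((X.presheaf.germ V x hx).hom.comp (f.appLE W V e).hom).toAlgebra
  haveI : IsScalarTower Γ(Y, W) Γ(X, V) (X.presheaf.stalk x) := IsScalarTower.of_algebraMap_eq fun _ => rfl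
  haveI : IsScalarTower Γ(X, V) (X.presheaf.stalk x) ((St x).obj F) :=
    IsScalarTower.of_algebraMap_smul fun _ _ => rfl
  refine exists_annAt_of_isAssociated (ML := (St x).obj F) (BL := X.presheaf.stalk x)
    (hV.primeIdealOf ⟨x, hx⟩).asIdeal (gmLin F hx) (hW.primeIdealOf ⟨f x, e hx⟩).asIdeal
    (comap_primeIdealOf' f hW hV e hx) hG ?_
  rw [RingHom.algebraMap_toAlgebra, ← stalk_ideal_eq f hW e hx]
  exact h

omit hx in
include hW in
theorem exists_ideal_compl (U : X.Opens) :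
    ∃ I : Ideal Γ(X, V), ∀ Q : PrimeSpectrum Γ(X, V), hV.fromSpec Q ∉ U ↔ I ≤ Q.asIdeal := by
  obtain ⟨I, hI⟩ := (PrimeSpectrum.isClosed_iff_zeroLocus_ideal _).1
    (U.2.isClosed_compl.preimage hV.fromSpec.continuous)
  exact ⟨I, fun Q => (Set.ext_iff.1 hI Q).trans Iff.rfl⟩

omit hx in
include hW hV in
/-- a section killed in a fibre by the equations of the complement gives an associated point outside -/
theorem exists_relAss_of_zeroAt [Coh.IsQCoh F] [LocallyOfFiniteType f] {U : X.Opens} {I : Ideal Γ(X, V)}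
    (hI : ∀ Q : PrimeSpectrum Γ(X, V), hV.fromSpec Q ∉ U ↔ I ≤ Q.asIdeal)
    (p : PrimeSpectrum Γ(Y, W)) (m : Γ(F, V))
    (hm : letI := chartMod f F e; ¬ ZeroAt p.asIdeal m)
    (hIm : letI := chartMod f F e; ∀ g ∈ I, ZeroAt p.asIdeal (g • m)) :
    ∃ x ∈ MoreMor.relAss f F, f x = hW.fromSpec p ∧ x ∉ U := by
  letI := chartAlg f e; letI := chartMod f F e; haveI := chartTower f F e
  haveI : Algebra.FiniteType Γ(Y, W) Γ(X, V) := RingHom.finiteType_algebraMap.1 (f.finiteType_appLE hW hV e)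
  haveI := p.2
  obtain ⟨m', hQ, hQp, hle⟩ := exists_maximal_annAt p.asIdeal (I := I) hm hIm
  let Q : PrimeSpectrum Γ(X, V) := ⟨annAt p.asIdeal m', hQ⟩
  have hfQ : f (hV.fromSpec Q) = hW.fromSpec p := by
    rw [AssPointLib.apply_fromSpec f hW hV e]
    exact congrArg _ (PrimeSpectrum.ext hQp)
  refine ⟨hV.fromSpec Q, ?_, hfQ, (hI Q).2 hle⟩
  have hx := AssPointLib.fromSpec_mem hV Q
  have h1 : hW.primeIdealOf ⟨f (hV.fromSpec Q), e hx⟩ = p := by
    refine hW.fromSpec.isOpenEmbedding.injective ?_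
    rw [hW.fromSpec_primeIdealOf]
    exact hfQ
  refine mem_relAss_of_annAt f F hW hV e hx m' ?_
  simp only [AssPointLib.primeIdealOf_fromSpec, h1]
  rfl

end GenFibNearLib

end
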