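import Mathlib
import Groth.Agent.GenFibNearLib.Scheme
import Groth.Agent.AffStratLib.Dim

/-!
# Fibres near the generic point: applications
-/

set_option autoImplicit false

universe u

open CategoryTheory AlgebraicGeometry TopologicalSpace Opposite

noncomputable section

namespace GenFibNearLib

variable {X Y : Scheme.{u}} (f : X ⟶ Y) [IrreducibleSpace Y] [LocallyOfFiniteType f] [QuasiCompact f]

theorem nowhereDense_fibres (Z : Set X) (hZ : IsClosed Z)
    (h : IsNowhereDense ((f.fiberι (genericPoint Y)) ⁻¹' Z)) :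
    ∃ V : Y.Opens, (V : Set Y).Nonempty ∧ ∀ y ∈ V, IsNowhereDense ((f.fiberι y) ⁻¹' Z) := by
  rw [(hZ.preimage (f.fiberι _).continuous).isNowhereDense_iff, interior_eq_empty_iff_dense_compl] at h
  obtain ⟨U, hU, hP⟩ := exists_open_notMaximal f hZ fun x hx hfx => by
    obtain ⟨w, rfl⟩ := exists_fiber_point f hfx
    by_contra! hmax
    have hD : closure ({w} : Set _) ∈ irreducibleComponents (f.fiber (genericPoint Y)) :=
      (Groth.Agent.GenFibLib.component_iff w).2 fun v hv => by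
        by_contra hne
        exact hmax _ ((specializes_fiber_iff f).1 hv) (fun he => hne ((f.fiberι _).isEmbedding.injective he))
          (fiberι_apply f v)
    obtain ⟨v, hv, hvZ⟩ := AffStratLib.exists_mem_of_dense (finite_components f _) hD h
    exact hvZ ((hZ.preimage (f.fiberι _).continuous).closure_subset_iff.2 (Set.singleton_subset_iff.2 hx) hv)
  refine ⟨U, ⟨_, hU⟩, fun y hy => ?_⟩
  rw [(hZ.preimage (f.fiberι _).continuous).isNowhereDense_iff, Set.eq_empty_iff_forall_notMem]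
  intro w hw
  obtain ⟨ξ, hξw, hξ⟩ := Groth.Agent.GenFibLib.exists_component_generization w
  have hξ' : ξ ∈ interior ((f.fiberι y) ⁻¹' Z) := hξw.mem_open isOpen_interior hw
  obtain ⟨x', hx', hne, hfx'⟩ := hP _ (by rw [fiberι_apply f ξ]; exact hy) (show ξ ∈ (f.fiberι y) ⁻¹' Z from interior_subset hξ')
  obtain ⟨v, rfl⟩ := exists_fiber_point f (hfx'.trans (fiberι_apply f ξ))
  exact hne (congrArg _ ((Groth.Agent.GenFibLib.component_iff ξ).1 hξ v ((specializes_fiber_iff f).2 hx')))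

theorem fibres_covered {ι : Type*} (Z : ι → Set (f.fiber (genericPoint Y))) (hcov : ⋃ i, Z i = Set.univ) :
    ∃ V : Y.Opens, (V : Set Y).Nonempty ∧ ∀ y ∈ V,
      ⋃ i, (f.fiberι y) ⁻¹' closure ((f.fiberι (genericPoint Y)) '' Z i) = Set.univ := by
  obtain ⟨U, hU, hP⟩ := exists_open_generization f
  refine ⟨U, ⟨_, hU⟩, fun y hy => Set.eq_univ_of_forall fun w => ?_⟩
  obtain ⟨x₀, hx₀, hf₀⟩ := hP (f.fiberι y w) (by rw [fiberι_apply f w]; exact hy)
  obtain ⟨w₀, rfl⟩ := exists_fiber_point f hf₀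
  obtain ⟨i, hi⟩ := Set.mem_iUnion.1 (hcov.ge (Set.mem_univ w₀))
  exact Set.mem_iUnion.2 ⟨i, hx₀.mem_closed isClosed_closure (subset_closure ⟨w₀, hi, rfl⟩)⟩

/-- an open on which finitely many conditions hold -/
theorem exists_open_forall {ι : Type*} [Finite ι] (P : ι → Y → Prop)
    (h : ∀ i, ∃ U : Y.Opens, genericPoint Y ∈ U ∧ ∀ y ∈ U, P i y) :
    ∃ U : Y.Opens, genericPoint Y ∈ U ∧ ∀ y ∈ U, ∀ i, P i y := by
  choose U hU hP using h
  refine ⟨⟨⋂ i, (U i : Set Y), isOpen_iInter_of_finite fun i => (U i).2⟩, Set.mem_iInter.2 hU,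
    fun y hy i => hP i y (Set.mem_iInter.1 hy i)⟩

theorem le_card_irreducibleComponents (n : ℕ)
    (h : (irreducibleComponents (f.fiber (genericPoint Y))).encard = n) :
    ∃ V : Y.Opens, (V : Set Y).Nonempty ∧ ∀ y ∈ V, (n : ℕ∞) ≤ (irreducibleComponents (f.fiber y)).encard := by
  classical
  let C := irreducibleComponents (f.fiber (genericPoint Y))
  haveI : Finite C := (finite_components f _).to_subtype
  let c : C → f.fiber (genericPoint Y) := fun D => D.2.1.genericPoint
  have hc : ∀ D : C, closure ({c D} : Set _) = D.1 := fun D =>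
    IsIrreducible.closure_genericPoint D.2.1 (isClosed_of_mem_irreducibleComponents D.1 D.2)
  let T : C → Set X := fun D => closure {f.fiberι _ (c D)}
  have hcT : ∀ D D' : C, f.fiberι _ (c D) ∈ T D' → D = D' := fun D D' hD => by
    have h1 : c D' ⤳ c D := (specializes_fiber_iff f).2 (specializes_iff_mem_closure.2 hD)
    have h2 : D.1 ⊆ D'.1 := by
      rw [← hc D, ← hc D']
      exact closure_minimal (Set.singleton_subset_iff.2 (specializes_iff_mem_closure.1 h1)) isClosed_closure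
    exact Subtype.ext (Set.Subset.antisymm h2 (D.2.2 D'.2.1 h2))
  obtain ⟨U₁, hU₁, hP₁⟩ := exists_open_forall (fun (D : C) (y : Y) =>
    ∃ x, x ∈ T D ∧ (∀ D' : C, D' ≠ D → x ∉ T D') ∧ f x = y) fun D => by
      obtain ⟨U, hU, hP⟩ := exists_open_nonempty f (f.fiberι _ (c D)) (fiberι_apply f _)
        (O := (⋃ D' : {D' : C // D' ≠ D}, T D'.1)ᶜ)
        (isClosed_iUnion_of_finite fun D' : {D' : C // D' ≠ D} => isClosed_closure).isOpen_compl
        (fun hmem => by
          obtain ⟨D', hD'⟩ := Set.mem_iUnion.1 hmem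
          exact D'.2 (hcT D D'.1 hD').symm)
      refine ⟨U, hU, fun y hy => ?_⟩
      obtain ⟨x, hx, hxO, hfx⟩ := hP y hy
      exact ⟨x, hx.mem_closure, fun D' hne hmem => hxO (Set.mem_iUnion.2 ⟨⟨D', hne⟩, hmem⟩), hfx⟩
  obtain ⟨U₀, hU₀, hP₀⟩ := exists_open_generization f
  refine ⟨U₀ ⊓ U₁, ⟨_, hU₀, hU₁⟩, fun y hy => ?_⟩
  rw [← h]
  choose x hxT hxne hfx using hP₁ y hy.2
  choose w hw using fun D => exists_fiber_point f (hfx D)
  choose ξ hξw hξ using fun D => Groth.Agent.GenFibLib.exists_component_generization (w D)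
  -- the generization lies in exactly one closure
  have hξT : ∀ D D' : C, f.fiberι y (ξ D) ∈ T D' → D' = D := fun D D' hmem => by
    by_contra hne
    refine hxne D D' hne ?_
    rw [← hw D]
    exact ((specializes_fiber_iff f).1 (hξw D)).mem_closed isClosed_closure hmem
  have hmem : ∀ D : C, f.fiberι y (ξ D) ∈ T D := fun D => by
    obtain ⟨x₀, hx₀, hf₀⟩ := hP₀ (f.fiberι y (ξ D)) (by rw [fiberι_apply f (ξ D)]; exact hy.1)
    obtain ⟨w₀, rfl⟩ := exists_fiber_point f hf₀
    obtain ⟨E, hE, hwE⟩ := Set.mem_sUnion.1 ((sUnion_irreducibleComponents).ge (Set.mem_univ w₀))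
    have h1 : f.fiberι y (ξ D) ∈ T ⟨E, hE⟩ :=
      (((specializes_fiber_iff f).1 (specializes_iff_mem_closure.2 ((hc ⟨E, hE⟩).ge hwE))).trans hx₀).mem_closure
    rwa [hξT D _ h1] at h1
  refine (Set.encard_le_encard_of_injOn (f := fun D => if hD : D ∈ C then closure {ξ ⟨D, hD⟩} else ∅)
    (fun D hD => ?_) fun D hD D' hD' he => ?_)
  · change (if hD : D ∈ C then closure {ξ ⟨D, hD⟩} else ∅) ∈ _
    rw [dif_pos hD]
    exact hξ _
  · simp only [dif_pos (show D ∈ C from hD), dif_pos (show D' ∈ C from hD')] at he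
    have h1 : ξ ⟨D, hD⟩ = ξ ⟨D', hD'⟩ :=
      ((specializes_iff_mem_closure.2 (he.ge (subset_closure rfl))).antisymm
        (specializes_iff_mem_closure.2 (he.le (subset_closure rfl)))).eq
    exact congrArg Subtype.val (hξT ⟨D', hD'⟩ ⟨D, hD⟩ (h1 ▸ hmem ⟨D, hD⟩))

theorem le_card_connectedComponents (n : ℕ)
    (h : ENat.card (_root_.ConnectedComponents (f.fiber (genericPoint Y))) = n) :
    ∃ V : Y.Opens, (V : Set Y).Nonempty ∧ ∀ y ∈ V, (n : ℕ∞) ≤ ENat.card (_root_.ConnectedComponents (f.fiber y)) := by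
  classical
  let F := f.fiber (genericPoint Y)
  haveI : Finite (_root_.ConnectedComponents F) := by
    rw [← ENat.card_lt_top, h]; exact ENat.natCast_lt_top n
  let C : _root_.ConnectedComponents F → Set F := fun c => _root_.ConnectedComponents.mk ⁻¹' {c}
  have hCc : ∀ c, IsClosed (C c) := fun c => isClosed_singleton.preimage _root_.ConnectedComponents.continuous_coe
  let T : _root_.ConnectedComponents F → Set X := fun c => closure (f.fiberι _ '' C c)
  have hTF : ∀ c, ∀ w : F, f.fiberι _ w ∈ T c → w ∈ C c := fun c w hw => by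
    have : w ∈ closure (C c) := by
      rw [(f.fiberι (genericPoint Y)).isEmbedding.isInducing.closure_eq_preimage_closure_image]
      exact hw
    rwa [(hCc c).closure_eq] at this
  obtain ⟨U₁, hU₁, hP₁⟩ := exists_open_forall (fun (c : _root_.ConnectedComponents F) (y : Y) =>
    (∃ x, x ∈ T c ∧ f x = y) ∧ ∀ x, f x = y → x ∈ T c → ∀ d, d ≠ c → x ∉ T d) fun c => by
      obtain ⟨w, rfl⟩ := _root_.ConnectedComponents.surjective_coe c
      obtain ⟨U, hU, hP⟩ := exists_open_nonempty f (f.fiberι _ w) (fiberι_apply f w) isOpen_univ (Set.mem_univ _)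
      obtain ⟨U', hU', hP'⟩ := exists_open_disjoint f
        (Z := T ↑w ∩ ⋃ d : {d // d ≠ (↑w : _root_.ConnectedComponents F)}, T d.1)
        (isClosed_closure.inter (isClosed_iUnion_of_finite fun d => isClosed_closure)) fun x hx hfx => by
          obtain ⟨v, rfl⟩ := exists_fiber_point f hfx
          obtain ⟨d, hd⟩ := Set.mem_iUnion.1 hx.2
          exact d.2 ((hTF d.1 v hd).symm.trans (hTF _ v hx.1))
      refine ⟨U ⊓ U', ⟨hU, hU'⟩, fun y hy => ⟨?_, fun x hfx hx d hd hxd => hP' x (hfx ▸ hy.2) ⟨hx, Set.mem_iUnion.2 ⟨⟨d, hd⟩, hxd⟩⟩⟩⟩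
      obtain ⟨x, hx, -, hfx⟩ := hP y hy.1
      exact ⟨x, hx.mem_closed isClosed_closure (subset_closure ⟨w, rfl, rfl⟩), hfx⟩
  obtain ⟨U₀, hU₀, hP₀⟩ := exists_open_generization f
  refine ⟨U₀ ⊓ U₁, ⟨_, hU₀, hU₁⟩, fun y hy => ?_⟩
  rw [← h]
  choose hne hdisj using hP₁ y hy.2
  choose x hxT hfx using hne
  choose w hw using fun c => exists_fiber_point f (hfx c)
  let S : _root_.ConnectedComponents F → Set (f.fiber y) := fun c => (f.fiberι y) ⁻¹' T c
  have hcov : ∀ v, ∃ c, v ∈ S c := fun v => by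
    obtain ⟨x₀, hx₀, hf₀⟩ := hP₀ (f.fiberι y v) (by rw [fiberι_apply f v]; exact hy.1)
    obtain ⟨w₀, rfl⟩ := exists_fiber_point f hf₀
    exact ⟨↑w₀, hx₀.mem_closed isClosed_closure (subset_closure ⟨w₀, rfl, rfl⟩)⟩
  have hclopen : ∀ c, IsClopen (S c) := fun c => by
    refine ⟨isClosed_closure.preimage (f.fiberι y).continuous, ?_⟩
    rw [show S c = (⋃ d : {d // d ≠ c}, S d.1)ᶜ from Set.ext fun v => ⟨fun hv hv' => by
      obtain ⟨d, hd⟩ := Set.mem_iUnion.1 hv'
      exact hdisj c _ (fiberι_apply f v) hv d.1 d.2 hd, fun hv => by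
      obtain ⟨d, hd⟩ := hcov v
      by_cases hdc : d = c
      · exact hdc ▸ hd
      · exact absurd (Set.mem_iUnion.2 ⟨⟨d, hdc⟩, hd⟩) hv⟩]
    exact (isClosed_iUnion_of_finite fun d => isClosed_closure.preimage (f.fiberι y).continuous).isOpen_compl
  refine ENat.card_le_card_of_injective (f := fun c => (↑(w c) : _root_.ConnectedComponents (f.fiber y))) fun c d he => ?_
  by_contra hne
  have hwd : w d ∈ S c := by
    refine (hclopen c).connectedComponent_subset (show w c ∈ S c by change f.fiberι y (w c) ∈ T c; rw [hw]; exact hxT c) ?_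
    rw [_root_.ConnectedComponents.coe_eq_coe.1 he]
    exact mem_connectedComponent
  refine hdisj c _ (fiberι_apply f _) hwd d (Ne.symm hne) ?_
  rw [hw]; exact hxT d

end GenFibNearLib

end
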