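import Mathlib
import Groth.Agent.GenFibNearLib.Scheme
import Groth.Agent.FibDimLib.Semicont

/-!
# A finite fibre bounds the generic fibre
-/

set_option autoImplicit false

universe u

open CategoryTheory AlgebraicGeometry TopologicalSpace

noncomputable section

namespace GenFibNearLib

theorem subsingleton_generic_fibre {X Y : Scheme.{u}} (f : X ⟶ Y) [IrreducibleSpace Y] [IrreducibleSpace X]
    [LocallyOfFiniteType f] (y : Y) [Nonempty (f.fiber y)] [Finite (f.fiber y)] :
    Subsingleton (f.fiber (genericPoint Y)) := by
  rcases isEmpty_or_nonempty (f.fiber (genericPoint Y)) with he | ⟨⟨w₀⟩⟩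
  · infer_instance
  haveI : IsDominant f := by
    refine ⟨?_⟩
    rw [denseRange_iff_closure_range, Set.eq_univ_iff_forall]
    refine fun z => closure_mono (Set.singleton_subset_iff.2 (show genericPoint Y ∈ Set.range f from ⟨f.fiberι _ w₀, fiberι_apply f w₀⟩)) ?_
    rw [(genericPoint_spec Y).def]; trivial
  obtain ⟨w⟩ := ‹Nonempty (f.fiber y)›
  have hzero : topologicalKrullDim (f.fiber y) ≤ 0 := by
    haveI : JacobsonSpace (f.fiber y) :=
      @LocallyOfFiniteType.jacobsonSpace _ _ (f.fiberToSpecResidueField y)
        (MorphismProperty.pullback_snd _ _ ‹LocallyOfFiniteType f›) _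
    haveI : DiscreteTopology (f.fiber y) := inferInstance
    exact topologicalKrullDim_zero_of_discreteTopology _
  have hdim : topologicalKrullDim (f.fiber (genericPoint Y)) ≤ 0 := by
    refine (FibDimLib.generic_fiber_dim_le f (f.fiberι y w)).trans ((FibDimLib.fibreDimAt_le_fiber f _).trans ?_)
    rw [fiberι_apply f w]
    exact hzero
  obtain ⟨v, hv⟩ := exists_fiber_point f (y := genericPoint Y) (x := genericPoint X) (by
    refine ((genericPoint_spec X).image f.continuous).eq ?_
    rw [Set.image_univ, f.denseRange.closure_eq]; exact genericPoint_spec Y)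
  suffices h : ∀ a, a = v from ⟨fun a b => (h a).trans (h b).symm⟩
  intro a
  have hva : v ⤳ a := (specializes_fiber_iff f).2 (by rw [hv]; exact genericPoint_specializes _)
  by_contra hne
  let Za : IrreducibleCloseds (f.fiber (genericPoint Y)) := ⟨closure {a}, isIrreducible_singleton.closure, isClosed_closure⟩
  let Zv : IrreducibleCloseds (f.fiber (genericPoint Y)) := ⟨closure {v}, isIrreducible_singleton.closure, isClosed_closure⟩
  have hlt : Za < Zv := by
    refine lt_of_le_of_ne (show closure {a} ⊆ closure {v} from
      closure_minimal (Set.singleton_subset_iff.2 hva.mem_closure) isClosed_closure) fun he => hne ?_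
    have h2 : a ⤳ v := specializes_iff_mem_closure.2
      ((show closure ({a} : Set (f.fiber (genericPoint Y))) = closure {v} from congrArg IrreducibleCloseds.carrier he).ge (subset_closure rfl))
    exact (h2.antisymm hva).eq
  have h3 := (Order.LTSeries.length_le_krullDim
    ((RelSeries.singleton _ Za : LTSeries (IrreducibleCloseds (f.fiber (genericPoint Y)))).snoc Zv hlt)).trans hdim
  have h4 : ((RelSeries.singleton _ Za : LTSeries (IrreducibleCloseds (f.fiber (genericPoint Y)))).snoc Zv hlt).length ≤ 0 := by
    exact_mod_cast h3
  exact absurd h4 (by simp)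

end GenFibNearLib

end
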