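import Mathlib
import Groth.Agent.GenFibNearLib.Apps
import Groth.Agent.FlatLib.FibScheme

/-!
# Non-reduced fibres near the generic point
-/

set_option autoImplicit false

universe u

open CategoryTheory AlgebraicGeometry TopologicalSpace Opposite TensorProduct

noncomputable section

namespace GenFibNearLib

set_option maxSynthPendingDepth 6 in
/-- The fibre over a point of an affine open: charts. -/
theorem exists_residue_iso {S : Scheme.{u}} {U : S.Opens} (hU : IsAffineOpen U) (s : S) (hsU : s ∈ U) :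
    ∃ eK : Spec (.of (hU.primeIdealOf ⟨s, hsU⟩).asIdeal.ResidueField) ≅ Spec (S.residueField s),
      eK.hom ≫ S.fromSpecResidueField s = Spec.map (CommRingCat.ofHom
        (algebraMap Γ(S, U) (hU.primeIdealOf ⟨s, hsU⟩).asIdeal.ResidueField)) ≫ hU.fromSpec := by
  let A := Γ(S, U)
  let p := (hU.primeIdealOf ⟨s, hsU⟩).asIdeal
  letI := S.presheaf.algebra_section_stalk ⟨s, hsU⟩
  haveI : IsLocalization.AtPrime (S.presheaf.stalk s) p := hU.isLocalization_stalk ⟨s, hsU⟩
  let e₀ : Localization.AtPrime p ≃ₐ[A] S.presheaf.stalk s := IsLocalization.algEquiv p.primeCompl _ _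
  let e : p.ResidueField ≃+* S.residueField s := IsLocalRing.ResidueField.mapEquiv e₀.toRingEquiv
  refine ⟨Scheme.Spec.mapIso (e.symm.toCommRingCatIso.op), ?_⟩
  have h1 : S.fromSpecResidueField s = Spec.map (S.presheaf.germ U s hsU ≫ S.residue s) ≫ hU.fromSpec := by
    rw [Spec.map_comp, Category.assoc, Scheme.fromSpecResidueField, ← hU.fromSpecStalk_eq_fromSpecStalk hsU]
    rfl
  rw [h1, ← Category.assoc]
  congr 1
  show Spec.map _ ≫ Spec.map _ = _
  rw [← Spec.map_comp]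
  congr 1
  ext r
  show e.symm (IsLocalRing.residue _ (algebraMap A (S.presheaf.stalk s) r)) = algebraMap A p.ResidueField r
  rw [RingEquiv.symm_apply_eq, IsScalarTower.algebraMap_apply A (Localization.AtPrime p) p.ResidueField]
  show _ = IsLocalRing.ResidueField.mapEquiv e₀.toRingEquiv (IsLocalRing.residue _ (algebraMap A _ r))
  rw [IsLocalRing.ResidueField.mapEquiv_apply, IsLocalRing.ResidueField.map_residue]
  exact congrArg _ (e₀.commutes r).symm

/-- fibres are reduced exactly when the fibre rings of affine charts are -/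
theorem isReduced_fiber_iff {X Y : Scheme.{u}} (f : X ⟶ Y) {W : Y.Opens} (hW : IsAffineOpen W) (y : Y) (hy : y ∈ W) :
    IsReduced (f.fiber y) ↔ ∀ (V : X.Opens), IsAffineOpen V → ∀ (e : V ≤ f ⁻¹ᵁ W),
      letI := (f.appLE W V e).hom.toAlgebra
      _root_.IsReduced ((hW.primeIdealOf ⟨y, hy⟩).asIdeal.Fiber Γ(X, V)) := by
  obtain ⟨eK, hs⟩ := exists_residue_iso hW y hy
  have hchart : ∀ (V : X.Opens) (hV : IsAffineOpen V) (e : V ≤ f ⁻¹ᵁ W),
      letI := (f.appLE W V e).hom.toAlgebra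
      ∃ θ : Spec (.of ((hW.primeIdealOf ⟨y, hy⟩).asIdeal.Fiber Γ(X, V))) ⟶ f.fiber y, IsOpenImmersion θ ∧
        ∀ z : f.fiber y, f.fiberι y z ∈ V → z ∈ Set.range θ := fun V hV e => by
    letI := (f.appLE W V e).hom.toAlgebra
    obtain ⟨θ, hθ, -, -, hr⟩ := FlatLib.exists_fibre_chart f hV.fromSpec hW.fromSpec
      (show hV.fromSpec ≫ f = Spec.map (CommRingCat.ofHom (algebraMap Γ(Y, W) Γ(X, V))) ≫ hW.fromSpec from
        (IsAffineOpen.SpecMap_appLE_fromSpec f hW hV e).symm) y eK hs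
    exact ⟨θ, hθ, fun z hz => hr z (by rw [hV.range_fromSpec]; exact hz)⟩
  refine ⟨fun _ V hV e => ?_, fun h => ?_⟩
  · obtain ⟨θ, hθ, -⟩ := hchart V hV e
    exact (affine_isReduced_iff _).1 (isReduced_of_isOpenImmersion θ)
  · haveI : ∀ z : f.fiber y, _root_.IsReduced ((f.fiber y).presheaf.stalk z) := fun z => by
      have hz : f.fiberι y z ∈ f ⁻¹ᵁ W := by
        change f (f.fiberι y z) ∈ W
        have h1 : f.fiberι y z ∈ Set.range (f.fiberι y) := ⟨z, rfl⟩
        rw [Scheme.Hom.range_fiberι] at h1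
        rw [show f (f.fiberι y z) = y from h1]; exact hy
      obtain ⟨V, hV, hzV, hVW⟩ := exists_isAffineOpen_mem_and_subset hz
      obtain ⟨θ, hθ, hr⟩ := hchart V hV hVW
      obtain ⟨w, rfl⟩ := hr z hzV
      letI := (f.appLE W V hVW).hom.toAlgebra
      haveI := (affine_isReduced_iff (CommRingCat.of ((hW.primeIdealOf ⟨y, hy⟩).asIdeal.Fiber Γ(X, V)))).mpr (h V hV hVW)
      exact isReduced_of_injective (asIso (θ.stalkMap w)).commRingCatIsoToRingEquiv (RingEquiv.injective _)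
    exact isReduced_of_isReduced_stalk _

variable {R₀ B₀ : Type u} [CommRing R₀] [CommRing B₀] [Algebra R₀ B₀]

theorem exists_back [hR : (nilradical R₀).IsPrime] (p : Ideal R₀) (q : Ideal (R₀ ⧸ nilradical R₀)) [p.IsPrime] [q.IsPrime]
    (hpq : p = q.comap (Ideal.Quotient.mk _)) :
    letI := redAlg (algebraMap R₀ B₀)
    ∃ Φ : q.Fiber (B₀ ⧸ nilExt (algebraMap R₀ B₀)) →+* p.Fiber B₀,
      ∀ c : B₀, Φ (1 ⊗ₜ (Ideal.Quotient.mk (nilExt (algebraMap R₀ B₀)) c)) = 1 ⊗ₜ c := by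
  letI := redAlg (algebraMap R₀ B₀)
  let iR : B₀ →ₐ[R₀] p.Fiber B₀ := Algebra.TensorProduct.includeRight
  let β : (R₀ ⧸ nilradical R₀) →+* p.ResidueField := Ideal.Quotient.lift _ (algebraMap R₀ p.ResidueField)
    fun a ha => Ideal.algebraMap_residueField_eq_zero.2 (nilradical_le_prime p ha)
  let lK : q.ResidueField →+* p.ResidueField := Ideal.ResidueField.lift q β
    (fun r hr => by
      obtain ⟨r, rfl⟩ := Ideal.Quotient.mk_surjective r
      exact Ideal.algebraMap_residueField_eq_zero.2 (hpq.ge hr))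
    (fun r hr => by
      obtain ⟨r, rfl⟩ := Ideal.Quotient.mk_surjective r
      exact isUnit_iff_ne_zero.2 fun h => hr (hpq.le (Ideal.algebraMap_residueField_eq_zero.1 h)))
  letI : Algebra (R₀ ⧸ nilradical R₀) (p.Fiber B₀) := ((algebraMap p.ResidueField (p.Fiber B₀)).comp β).toAlgebra
  let l : q.ResidueField →ₐ[R₀ ⧸ nilradical R₀] p.Fiber B₀ :=
    { (algebraMap p.ResidueField (p.Fiber B₀)).comp lK with
      commutes' := fun r => by
        change algebraMap p.ResidueField (p.Fiber B₀) (lK (algebraMap _ q.ResidueField r)) = _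
        rw [Ideal.ResidueField.lift_algebraMap]
        rfl }
  let r' : B₀ ⧸ nilExt (algebraMap R₀ B₀) →ₐ[R₀ ⧸ nilradical R₀] p.Fiber B₀ :=
    { Ideal.Quotient.lift (nilExt (algebraMap R₀ B₀)) iR.toRingHom (fun a ha => by
        refine (Ideal.map_le_iff_le_comap (K := RingHom.ker iR.toRingHom)).2 (fun c hc => ?_) ha
        rw [Ideal.mem_comap, RingHom.mem_ker]
        refine (iR.commutes c).trans ?_
        rw [Algebra.TensorProduct.algebraMap_apply, Ideal.algebraMap_residueField_eq_zero.2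
          (nilradical_le_prime p hc), zero_tmul]) with
      commutes' := fun r => by
        obtain ⟨r, rfl⟩ := Ideal.Quotient.mk_surjective r
        refine (iR.commutes r).trans ?_
        rfl }
  refine ⟨(Algebra.TensorProduct.lift l r' fun _ _ => Commute.all _ _).toRingHom, fun c => ?_⟩
  refine (Algebra.TensorProduct.lift_tmul l r' (fun _ _ => Commute.all _ _) 1 _).trans ?_
  rw [map_one, one_mul]
  rfl

theorem fiber_not_reduced (hR : (nilradical R₀).IsPrime) (hft : Algebra.FiniteType R₀ B₀)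
    (h : ¬ _root_.IsReduced ((nilradical R₀).Fiber B₀)) :
    ∃ f : R₀, f ∉ nilradical R₀ ∧ ∀ p : Ideal R₀, ∀ _ : p.IsPrime, f ∉ p → ¬ _root_.IsReduced (p.Fiber B₀) := by
  let φ : R₀ →+* B₀ := algebraMap R₀ B₀
  letI : Algebra (R₀ ⧸ nilradical R₀) (B₀ ⧸ nilExt φ) := redAlg φ
  haveI := hR
  haveI : Algebra.FiniteType (R₀ ⧸ nilradical R₀) (B₀ ⧸ nilExt φ) :=
    finiteType_red φ (RingHom.finiteType_algebraMap.2 hft)
  let R := R₀ ⧸ nilradical R₀
  let B := B₀ ⧸ nilExt φ
  haveI : IsScalarTower R₀ R B := IsScalarTower.of_algebraMap_eq fun r => rfl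
  -- comparison of fibre rings
  have hΨ : ∀ (p : Ideal R₀) (q : Ideal R) [p.IsPrime] [q.IsPrime] (hpq : p = q.comap (Ideal.Quotient.mk _)),
      ∃ Ψ : p.Fiber B₀ →+* q.Fiber B, ∀ b : B₀, Ψ (1 ⊗ₜ b) = 1 ⊗ₜ (Ideal.Quotient.mk (nilExt φ) b) := by
    intro p q _ _ hpq
    let μ : p.ResidueField →ₐ[R₀] q.ResidueField := Ideal.ResidueField.mapₐ p q (Algebra.ofId R₀ R) hpq
    let l : p.ResidueField →ₐ[R₀] q.Fiber B :=
      ((Algebra.TensorProduct.includeLeft : q.ResidueField →ₐ[R] q.Fiber B).restrictScalars R₀).comp μ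
    let r : B₀ →ₐ[R₀] q.Fiber B :=
      ((Algebra.TensorProduct.includeRight : B →ₐ[R] q.Fiber B).restrictScalars R₀).comp (Ideal.Quotient.mkₐ R₀ _)
    refine ⟨(Algebra.TensorProduct.lift l r fun _ _ => Commute.all _ _).toRingHom, fun b => ?_⟩
    change l 1 * r b = _
    rw [map_one, one_mul]
    rfl
  obtain ⟨z, hz, hz0⟩ : ∃ z : (nilradical R₀).Fiber B₀, IsNilpotent z ∧ z ≠ 0 := by
    by_contra! hne
    exact h ⟨hne⟩
  obtain ⟨r, hr, b, hb⟩ := Ideal.Fiber.exists_smul_eq_one_tmul _ z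
  have hru : IsUnit (algebraMap R₀ (nilradical R₀).ResidueField r) := residueField_unit hr
  obtain ⟨n, hn⟩ := hz
  have hb0 : (1 : (nilradical R₀).ResidueField) ⊗ₜ[R₀] b ≠ 0 := fun h0 => hz0 (by
    rw [h0, ← algebraMap_smul (nilradical R₀).ResidueField] at hb
    exact hru.smul_eq_zero.1 hb)
  have hbn : ((1 : (nilradical R₀).ResidueField) ⊗ₜ[R₀] b) ^ n = 0 := by rw [← hb, smul_pow, hn, smul_zero]
  -- torsion-freeness of the element
  have hx : ∀ r : R, r • (Ideal.Quotient.mk (nilExt φ) b : B) = 0 → r = 0 := by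
    intro r hr0
    obtain ⟨r, rfl⟩ := Ideal.Quotient.mk_surjective r
    by_contra hne
    have hrn : r ∉ nilradical R₀ := fun h => hne (Ideal.Quotient.eq_zero_iff_mem.2 h)
    have hmem : φ r * b ∈ nilExt φ := by
      rw [← Ideal.Quotient.eq_zero_iff_mem, map_mul]
      rw [Algebra.smul_def] at hr0
      exact hr0
    refine hb0 ((residueField_unit hrn).smul_eq_zero.1 ?_)
    rw [algebraMap_smul, ← tmul_smul, Algebra.smul_def]
    have hle : nilExt φ ≤ RingHom.ker (Algebra.TensorProduct.includeRight :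
        B₀ →ₐ[R₀] (nilradical R₀).Fiber B₀).toRingHom := by
      refine Ideal.map_le_iff_le_comap.2 fun a ha => ?_
      rw [Ideal.mem_comap, RingHom.mem_ker]
      refine ((Algebra.TensorProduct.includeRight : B₀ →ₐ[R₀] (nilradical R₀).Fiber B₀).commutes a).trans ?_
      rw [Algebra.TensorProduct.algebraMap_apply, Ideal.algebraMap_residueField_eq_zero.2 ha, zero_tmul]
    exact hle hmem
  obtain ⟨f₁, hf₁, hF₁⟩ := exists_tmul_ne_zero (R := R) (B := B) (M := B) (Ideal.Quotient.mk (nilExt φ) b) hx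
  -- the power vanishes generically
  haveI : (⊥ : Ideal R).IsPrime := Ideal.isPrime_bot
  obtain ⟨Ψ, hΨ₀⟩ := hΨ (nilradical R₀) (⊥ : Ideal R) (by rw [← RingHom.ker_eq_comap_bot, Ideal.mk_ker])
  have hbn' : (1 : (⊥ : Ideal R).ResidueField) ⊗ₜ[R] ((Ideal.Quotient.mk (nilExt φ) b : B) ^ n) = 0 := by
    have := congrArg Ψ hbn
    rw [map_pow, map_zero, hΨ₀, Algebra.TensorProduct.tmul_pow, one_pow] at this
    exact this
  haveI : IsLocalization (nonZeroDivisors R) (⊥ : Ideal R).ResidueField := inferInstanceAs (IsFractionRing R (⊥ : Ideal R).ResidueField)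
  obtain ⟨⟨f₂, hf₂⟩, hf₂b⟩ := (IsLocalizedModule.eq_zero_iff (nonZeroDivisors R)
    (TensorProduct.mk R (⊥ : Ideal R).ResidueField B 1)).1 hbn'
  obtain ⟨g, hg⟩ := Ideal.Quotient.mk_surjective (f₁ * f₂)
  refine ⟨g, fun h => mul_ne_zero hf₁ (nonZeroDivisors.ne_zero hf₂) ?_, fun p hp hgp hred => ?_⟩
  · rw [← hg]; exact Ideal.Quotient.eq_zero_iff_mem.2 h
  haveI := hp
  let q := p.map (Ideal.Quotient.mk (nilradical R₀))
  haveI hq : q.IsPrime :=
    Ideal.map_isPrime_of_surjective Ideal.Quotient.mk_surjective (by rw [Ideal.mk_ker]; exact nilradical_le_prime p)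
  have hpq : p = q.comap (Ideal.Quotient.mk _) := by
    rw [Ideal.comap_map_of_surjective _ Ideal.Quotient.mk_surjective, ← RingHom.ker_eq_comap_bot, Ideal.mk_ker,
      sup_eq_left.2 (nilradical_le_prime p)]
  have hgq : f₁ * f₂ ∉ q := fun h => hgp (hpq.ge (by rw [Ideal.mem_comap, hg]; exact h))
  obtain ⟨Ψp, hΨp⟩ := hΨ p q hpq
  -- the fibre ring at p
  have h1 : (1 : q.ResidueField) ⊗ₜ[R] ((Ideal.Quotient.mk (nilExt φ) b : B) ^ n) = 0 := by
    refine (residueField_unit (p := q) fun h => hgq (q.mul_mem_left _ h)).smul_eq_zero.1 ?_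
    rw [algebraMap_smul, ← tmul_smul]
    have : f₂ • ((Ideal.Quotient.mk (nilExt φ) b : B) ^ n) = 0 := hf₂b
    rw [this, tmul_zero]
  have h2 : (1 : p.ResidueField) ⊗ₜ[R₀] b ≠ 0 := fun h0 => by
    have := congrArg Ψp h0
    rw [hΨp, map_zero] at this
    exact hF₁ q hq (fun h => hgq (q.mul_mem_right _ h)) this
  -- transport the vanishing back
  obtain ⟨Φ, hΦ⟩ : ∃ Φ : q.Fiber B →+* p.Fiber B₀, ∀ c : B₀, Φ (1 ⊗ₜ (Ideal.Quotient.mk (nilExt φ) c)) = 1 ⊗ₜ c :=
    exists_back p q hpq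
  refine h2 (hred.eq_zero _ ⟨n, ?_⟩)
  rw [Algebra.TensorProduct.tmul_pow, one_pow, ← hΦ]
  rw [map_pow, h1, map_zero]
where
  residueField_unit {A : Type u} [CommRing A] {p : Ideal A} [p.IsPrime] {r : A} (hr : r ∉ p) :
      IsUnit (algebraMap A p.ResidueField r) :=
    isUnit_iff_ne_zero.2 fun h => hr (Ideal.algebraMap_residueField_eq_zero.1 h)

end GenFibNearLib

end

noncomputable section

open CategoryTheory AlgebraicGeometry TopologicalSpace

namespace GenFibNearLib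

variable {X Y : Scheme.{u}} (f : X ⟶ Y) [IrreducibleSpace Y] [LocallyOfFiniteType f]

theorem not_reduced_fibres (h : ¬ IsReduced (f.fiber (genericPoint Y))) :
    ∃ V : Y.Opens, (V : Set Y).Nonempty ∧ ∀ y ∈ V, ¬ IsReduced (f.fiber y) := by
  obtain ⟨W, hW, hη, -⟩ := exists_isAffineOpen_mem_and_subset (x := genericPoint Y) (U := ⊤) trivial
  rw [isReduced_fiber_iff f hW _ hη] at h
  push Not at h
  obtain ⟨V, hV, e, hne⟩ := h
  letI := (f.appLE W V e).hom.toAlgebra
  haveI := nilradical_isPrime W hW hη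
  have hne' : ¬ _root_.IsReduced ((nilradical Γ(Y, W)).Fiber Γ(X, V)) := by
    have key : ∀ (p q : Ideal Γ(Y, W)) (hp : p.IsPrime) (hq : q.IsPrime), p = q →
        ¬ _root_.IsReduced (p.Fiber Γ(X, V)) → ¬ _root_.IsReduced (q.Fiber Γ(X, V)) := by
      intro p q hp hq hpq; subst hpq; exact id
    exact key _ _ _ _ (nilradical_eq W hW hη).symm hne
  obtain ⟨r, hr, hF⟩ := fiber_not_reduced (nilradical_isPrime W hW hη)
    (RingHom.finiteType_algebraMap.1 (f.finiteType_appLE hW hV e)) hne'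
  refine ⟨Y.basicOpen r, ⟨_, generic_mem_basicOpen hW hη hr⟩, fun y hy hred => ?_⟩
  have hyW : y ∈ W := Y.basicOpen_le _ hy
  refine hF (hW.primeIdealOf ⟨y, hyW⟩).asIdeal (hW.primeIdealOf ⟨y, hyW⟩).2 ?_
    ((isReduced_fiber_iff f hW y hyW).1 hred V hV e)
  have h' : hW.fromSpec (hW.primeIdealOf ⟨y, hyW⟩) ∈ Y.basicOpen r := by
    rw [hW.fromSpec_primeIdealOf]; exact hy
  change hW.primeIdealOf ⟨y, hyW⟩ ∈ hW.fromSpec ⁻¹ᵁ Y.basicOpen r at h'
  rw [hW.fromSpec_preimage_basicOpen] at h'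
  exact h'

end GenFibNearLib

end
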